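import Cfsg.Agent.H887.DS.Lin

/-!
# Equal matrix coefficients and descent of intertwiners (helper870, for S3499)
-/

set_option autoImplicit false

namespace Cfsg.Agent.H870.GE

open Module Cfsg.Agent.H887.DS
open scoped Matrix

/-- an intertwining operator from equal matrix coefficients -/
theorem exists_intertwiner {G k V V' : Type*} [Group G] [Field k] [AddCommGroup V] [Module k V] [FiniteDimensional k V]
    [AddCommGroup V'] [Module k V'] [FiniteDimensional k V'] {ρ : G →* Module.End k V} {ρ' : G →* Module.End k V'}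
    (hirr : ∀ L : Submodule k V, (∀ g, ∀ w ∈ L, ρ g w ∈ L) → L = ⊥ ∨ L = ⊤) {φ : Module.Dual k V} (hφ : φ ≠ 0)
    {v : V} (hv : v ≠ 0) {ψ : Module.Dual k V'} {w : V'} (h : ∀ g, φ (ρ g v) = ψ (ρ' g w))
    (hd : finrank k V' ≤ finrank k V) : ∃ T : V' →ₗ[k] V, T ≠ 0 ∧ ∀ g u, T (ρ' g u) = ρ g (T u) := by
  have hinj := Psi_injective hirr hφ
  have hle : LinearMap.range (Psi ρ φ) ≤ LinearMap.range (Psi ρ' ψ) := by
    rw [LinearMap.range_eq_map, ← span_eq_top hirr hv, Submodule.map_span, Submodule.span_le]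
    rintro _ ⟨_, ⟨g, rfl⟩, rfl⟩
    refine ⟨ρ' g w, ?_⟩
    funext x
    rw [Psi_apply, Psi_apply]
    have h1 := h (x * g)
    rw [map_mul, map_mul] at h1
    exact h1.symm
  have hfin : FiniteDimensional k (LinearMap.range (Psi ρ' ψ)) := inferInstance
  have heq : LinearMap.range (Psi ρ φ) = LinearMap.range (Psi ρ' ψ) := by
    refine Submodule.eq_of_le_of_finrank_le hle ?_
    rw [LinearMap.finrank_range_of_inj hinj]
    exact (LinearMap.finrank_range_le _).trans hd
  let A : V ≃ₗ[k] LinearMap.range (Psi ρ φ) := LinearEquiv.ofInjective _ hinj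
  let B : V' →ₗ[k] LinearMap.range (Psi ρ φ) := (Psi ρ' ψ).codRestrict _ fun u => by
    rw [heq]
    exact ⟨u, rfl⟩
  have hAB : ∀ u, Psi ρ φ (A.symm (B u)) = Psi ρ' ψ u := by
    intro u
    have h1 : (A (A.symm (B u)) : G → k) = (B u : G → k) := by rw [LinearEquiv.apply_symm_apply]
    exact h1
  refine ⟨A.symm.toLinearMap.comp B, ?_, ?_⟩
  · intro h0
    have h1 : ∀ u, Psi ρ' ψ u = 0 := by
      intro u
      rw [← hAB u]
      have h2 : A.symm (B u) = 0 := LinearMap.congr_fun h0 u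
      rw [h2, map_zero]
    have h2 : Psi ρ φ v = 0 := by
      have h3 : Psi ρ φ v ∈ LinearMap.range (Psi ρ' ψ) := hle ⟨v, rfl⟩
      obtain ⟨u, hu⟩ := h3
      rw [← hu, h1]
    exact hv (hinj (h2.trans (map_zero _).symm))
  · intro g u
    apply hinj
    show Psi ρ φ (A.symm (B (ρ' g u))) = Psi ρ φ (ρ g (A.symm (B u)))
    rw [hAB]
    funext x
    have h1 := congrFun (hAB u) (x * g)
    rw [Psi_apply, Psi_apply, map_mul, map_mul] at h1
    rw [Psi_apply, Psi_apply]
    exact h1.symm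

/-- descent of an intertwining matrix -/
theorem descend {F k : Type*} [Field F] [Field k] [Algebra F k] {ι G : Type*} [Fintype ι]
    (A B : G → Matrix ι ι F) {X : Matrix ι ι k} (hX : X ≠ 0)
    (h : ∀ g, X * (B g).map (algebraMap F k) = (A g).map (algebraMap F k) * X) :
    ∃ X0 : Matrix ι ι F, X0 ≠ 0 ∧ ∀ g, X0 * B g = A g * X0 := by
  obtain ⟨i, j, hij⟩ : ∃ i j, X i j ≠ 0 := by
    by_contra hcon
    push Not at hcon
    exact hX (Matrix.ext hcon)
  obtain ⟨l, hl⟩ : ∃ l : Module.Dual F k, l (X i j) ≠ 0 := by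
    by_contra hcon
    push Not at hcon
    exact hij ((Module.forall_dual_apply_eq_zero_iff F (X i j)).1 hcon)
  refine ⟨X.map l, ?_, ?_⟩
  · intro h0
    exact hl (congrFun (congrFun h0 i) j)
  · intro g
    ext a b
    have h1 := congrArg l (congrFun (congrFun (h g) a) b)
    rw [Matrix.mul_apply, Matrix.mul_apply, map_sum, map_sum] at h1
    rw [Matrix.mul_apply, Matrix.mul_apply]
    refine (Finset.sum_congr rfl fun c _ => ?_).trans (h1.trans (Finset.sum_congr rfl fun c _ => ?_))
    · rw [Matrix.map_apply, Matrix.map_apply, mul_comm (X a c), ← Algebra.smul_def, map_smul, smul_eq_mul, mul_comm]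
    · rw [Matrix.map_apply, Matrix.map_apply, ← Algebra.smul_def, map_smul, smul_eq_mul]

end Cfsg.Agent.H870.GE
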