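import Cfsg.Agent.H870.GE.RepMain
import Cfsg.Agent.H64.SubG2
import Cfsg.Prelude.Def_GeometricClasses

/-!
# The forms (helper870, for S3499)
-/

set_option autoImplicit false
set_option linter.unusedSectionVars false
set_option linter.unusedSimpArgs false

namespace Cfsg.Agent.H870.GE

open Cfsg Cfsg.Geo Matrix Cfsg.Agent.H161.Oct Subgroup
open scoped commutatorElement

/-! ### uniqueness of the form -/

section uniq

variable {F : Type*} [Field F] {ι : Type} [Fintype ι] [DecidableEq ι]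

theorem matrix_eq_of_dot {A B : Matrix ι ι F} (h : ∀ u v : ι → F, u ⬝ᵥ (A *ᵥ v) = u ⬝ᵥ (B *ᵥ v)) : A = B := by
  ext i j
  have h1 := h (Pi.single i 1) (Pi.single j 1)
  rw [Matrix.mulVec_single_one, Matrix.mulVec_single_one, single_one_dotProduct, single_one_dotProduct] at h1
  exact h1

theorem dot_conj (A G : Matrix ι ι F) (u v : ι → F) : u ⬝ᵥ ((Aᵀ * G * A) *ᵥ v) = (A *ᵥ u) ⬝ᵥ (G *ᵥ (A *ᵥ v)) := by
  rw [← Matrix.mulVec_mulVec, ← Matrix.mulVec_mulVec, Matrix.dotProduct_mulVec, Matrix.vecMul_transpose]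

theorem form_scal [Nonempty ι] {G : Matrix ι ι F} (hG : IsUnit G) {P0 P : Subgroup (GL ι F)} {θ : GL ι F}
    (hP : P = P0.map (MulAut.conj θ).toMonoidHom)
    (habs : ∀ N : Matrix ι ι F, (∀ s ∈ matrixSet P, N * s = s * N) → ∃ c : F, N = c • (1 : Matrix ι ι F))
    (h1 : ∀ h ∈ P0, (h : Matrix ι ι F)ᵀ * G * h = G) (h2 : ∀ h ∈ P, (h : Matrix ι ι F)ᵀ * G * h = G) :
    ∃ κ : F, κ ≠ 0 ∧ (θ : Matrix ι ι F)ᵀ * G * θ = κ • G := by
  obtain ⟨G', rfl⟩ := hG
  set t : Matrix ι ι F := (θ : Matrix ι ι F) with ht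
  set ti : Matrix ι ι F := ((θ⁻¹ : GL ι F) : Matrix ι ι F) with hti
  have e1 : t * ti = 1 := by rw [ht, hti, ← Units.val_mul, mul_inv_cancel, Units.val_one]
  have e2 : ti * t = 1 := by rw [ht, hti, ← Units.val_mul, inv_mul_cancel, Units.val_one]
  set K : Matrix ι ι F := tᵀ * (G' : Matrix ι ι F) * t with hK
  set Gi : Matrix ι ι F := ((G'⁻¹ : GL ι F) : Matrix ι ι F) with hGi
  have e3 : (G' : Matrix ι ι F) * Gi = 1 := by rw [hGi, ← Units.val_mul, mul_inv_cancel, Units.val_one]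
  have e4 : Gi * (G' : Matrix ι ι F) = 1 := by rw [hGi, ← Units.val_mul, inv_mul_cancel, Units.val_one]
  have hKh : ∀ h ∈ P0, (h : Matrix ι ι F)ᵀ * K * h = K := by
    intro h hh
    have h3 := h2 (θ * h * θ⁻¹) (by rw [hP]; exact ⟨h, hh, rfl⟩)
    have h4 : ((θ * h * θ⁻¹ : GL ι F) : Matrix ι ι F) = t * h * ti := by rw [Units.val_mul, Units.val_mul]
    rw [h4] at h3
    have h5 : tᵀ * ((t * (h : Matrix ι ι F) * ti)ᵀ * (G' : Matrix ι ι F) * (t * h * ti)) * t = K := by rw [h3]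
    rw [Matrix.transpose_mul, Matrix.transpose_mul] at h5
    have e5 : tᵀ * tiᵀ = 1 := by rw [← Matrix.transpose_mul, e2, Matrix.transpose_one]
    calc (h : Matrix ι ι F)ᵀ * K * h = (tᵀ * tiᵀ) * (h : Matrix ι ι F)ᵀ * tᵀ * (G' : Matrix ι ι F) * t * h * (ti * t) := by
          rw [e5, e2, hK, one_mul, mul_one]
          simp only [mul_assoc]
      _ = tᵀ * (tiᵀ * ((h : Matrix ι ι F)ᵀ * tᵀ) * (G' : Matrix ι ι F) * (t * h * ti)) * t := by simp only [mul_assoc]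
      _ = K := h5
  have hN : ∀ h ∈ P0, (Gi * K) * (h : Matrix ι ι F) = h * (Gi * K) := by
    intro h hh
    set hi : Matrix ι ι F := ((h⁻¹ : GL ι F) : Matrix ι ι F) with hhi
    have e6 : (h : Matrix ι ι F) * hi = 1 := by rw [hhi, ← Units.val_mul, mul_inv_cancel, Units.val_one]
    have e7 : hiᵀ * (h : Matrix ι ι F)ᵀ = 1 := by rw [← Matrix.transpose_mul, e6, Matrix.transpose_one]
    have h3 : (h : Matrix ι ι F)ᵀ * (G' : Matrix ι ι F) * ((Gi * K) * h) = (h : Matrix ι ι F)ᵀ * G' * (h * (Gi * K)) := by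
      calc (h : Matrix ι ι F)ᵀ * (G' : Matrix ι ι F) * ((Gi * K) * h)
          = (h : Matrix ι ι F)ᵀ * ((G' : Matrix ι ι F) * Gi) * K * h := by simp only [mul_assoc]
        _ = K := by rw [e3, mul_one, hKh h hh]
        _ = (G' : Matrix ι ι F) * Gi * K := by rw [e3, one_mul]
        _ = ((h : Matrix ι ι F)ᵀ * G' * h) * Gi * K := by rw [h1 h hh]
        _ = _ := by simp only [mul_assoc]
    have h4 := congrArg (fun M => Gi * (hiᵀ * M)) h3
    calc (Gi * K) * (h : Matrix ι ι F) = Gi * ((hiᵀ * (h : Matrix ι ι F)ᵀ) * (G' : Matrix ι ι F) * ((Gi * K) * h)) := by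
          rw [e7, one_mul, ← mul_assoc Gi (G' : Matrix ι ι F), e4, one_mul]
      _ = Gi * (hiᵀ * ((h : Matrix ι ι F)ᵀ * (G' : Matrix ι ι F) * ((Gi * K) * h))) := by simp only [mul_assoc]
      _ = Gi * (hiᵀ * ((h : Matrix ι ι F)ᵀ * (G' : Matrix ι ι F) * (h * (Gi * K)))) := h4
      _ = Gi * ((hiᵀ * (h : Matrix ι ι F)ᵀ) * (G' : Matrix ι ι F) * (h * (Gi * K))) := by simp only [mul_assoc]
      _ = h * (Gi * K) := by rw [e7, one_mul, ← mul_assoc Gi (G' : Matrix ι ι F), e4, one_mul]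
  obtain ⟨c, hc⟩ := habs (t * (Gi * K) * ti) (by
    rintro _ ⟨x, hx, rfl⟩
    rw [SetLike.mem_coe, hP] at hx
    obtain ⟨h, hh, rfl⟩ := hx
    have h4 : (((MulAut.conj θ).toMonoidHom h : GL ι F) : Matrix ι ι F) = t * h * ti := by
      show ((θ * h * θ⁻¹ : GL ι F) : Matrix ι ι F) = _
      rw [Units.val_mul, Units.val_mul]
    show t * (Gi * K) * ti * (((MulAut.conj θ).toMonoidHom h : GL ι F) : Matrix ι ι F) =
      (((MulAut.conj θ).toMonoidHom h : GL ι F) : Matrix ι ι F) * (t * (Gi * K) * ti)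
    rw [h4]
    calc t * (Gi * K) * ti * (t * (h : Matrix ι ι F) * ti) = t * (Gi * K) * (ti * t) * h * ti := by simp only [mul_assoc]
      _ = t * ((Gi * K) * h) * ti := by rw [e2, mul_one]; simp only [mul_assoc]
      _ = t * (h * (Gi * K)) * ti := by rw [hN h hh]
      _ = t * h * (ti * t) * (Gi * K) * ti := by rw [e2, mul_one]; simp only [mul_assoc]
      _ = _ := by simp only [mul_assoc])
  have h5 : Gi * K = c • (1 : Matrix ι ι F) := by
    calc Gi * K = (ti * t) * (Gi * K) * (ti * t) := by rw [e2, one_mul, mul_one]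
      _ = ti * (t * (Gi * K) * ti) * t := by simp only [mul_assoc]
      _ = c • (1 : Matrix ι ι F) := by rw [hc, Matrix.mul_smul, mul_one, Matrix.smul_mul, e2]
  have h6 : K = c • (G' : Matrix ι ι F) := by
    calc K = (G' : Matrix ι ι F) * Gi * K := by rw [e3, one_mul]
      _ = (G' : Matrix ι ι F) * (Gi * K) := by rw [mul_assoc]
      _ = _ := by rw [h5, Matrix.mul_smul, mul_one]
  refine ⟨c, ?_, h6⟩
  rintro rfl
  rw [zero_smul] at h6
  have h7 : (G' : Matrix ι ι F) = 0 := by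
    calc (G' : Matrix ι ι F) = (t * ti)ᵀ * G' * (t * ti) := by rw [e1, Matrix.transpose_one, one_mul, mul_one]
      _ = tiᵀ * K * ti := by rw [Matrix.transpose_mul, hK]; simp only [mul_assoc]
      _ = 0 := by rw [h6, mul_zero, zero_mul]
  have h8 : (1 : Matrix ι ι F) = 0 := by rw [← e3, h7, zero_mul]
  exact one_ne_zero h8

/-- the bilinear version -/
theorem form_scal' [Nonempty ι] {G : Matrix ι ι F} (hG : IsUnit G) {P0 P : Subgroup (GL ι F)} {θ : GL ι F}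
    (hP : P = P0.map (MulAut.conj θ).toMonoidHom)
    (habs : ∀ N : Matrix ι ι F, (∀ s ∈ matrixSet P, N * s = s * N) → ∃ c : F, N = c • (1 : Matrix ι ι F))
    {f : (ι → F) → (ι → F) → F} (hf : ∀ u v, f u v = u ⬝ᵥ (G *ᵥ v))
    (h1 : ∀ h ∈ P0, ∀ u v, f ((h : Matrix ι ι F) *ᵥ u) ((h : Matrix ι ι F) *ᵥ v) = f u v)
    (h2 : ∀ h ∈ P, ∀ u v, f ((h : Matrix ι ι F) *ᵥ u) ((h : Matrix ι ι F) *ᵥ v) = f u v) :
    ∃ κ : F, κ ≠ 0 ∧ ∀ u v, f ((θ : Matrix ι ι F) *ᵥ u) ((θ : Matrix ι ι F) *ᵥ v) = κ * f u v := by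
  obtain ⟨κ, hκ, h3⟩ := form_scal hG hP habs
    (fun h hh => matrix_eq_of_dot fun u v => by rw [dot_conj, ← hf, ← hf, h1 h hh])
    (fun h hh => matrix_eq_of_dot fun u v => by rw [dot_conj, ← hf, ← hf, h2 h hh])
  refine ⟨κ, hκ, fun u v => ?_⟩
  rw [hf, hf, ← dot_conj, h3, Matrix.smul_mulVec, dotProduct_smul, smul_eq_mul]

end uniq

end Cfsg.Agent.H870.GE
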