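import Cfsg.Agent.H870.GE.Mod
import Cfsg.Agent.H419.EP.Soc

/-!
# The kill of `G₂(F)` (helper870, for S3499)

* `KD P x b` : `b ∈ P` normalises `P ∩ P^x ≠ 1` and is not in the normaliser of `P^x`;
* `Md.kd` : the data for `P0`;
* `ept_kill` : no extremely primitive group has a stabiliser with socle `N` and `KD N x b`.
-/

set_option autoImplicit false
set_option linter.unusedSimpArgs false

namespace Cfsg.Agent.H870.GE

open Cfsg.Lie Cfsg.Agent.H161.Oct Cfsg.Agent.H284 Subgroup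
open scoped Matrix

/-- the data of the kill -/
structure KD {G : Type*} [Group G] (P : Subgroup G) (x b : G) : Prop where
  mem : b ∈ P
  k1 : ∀ g ∈ P, x⁻¹ * g * x ∈ P → x⁻¹ * (b * g * b⁻¹) * x ∈ P
  k2 : ¬ ∀ g ∈ P, (x⁻¹ * b * x) * g * (x⁻¹ * b * x)⁻¹ ∈ P
  k4 : ∃ g ∈ P, g ≠ 1 ∧ x⁻¹ * g * x ∈ P

section

variable {F : Type*} [Field F] {ι : Type} [Fintype ι] [DecidableEq ι] (M : Md ι F)

theorem Y_neg_Y (t : F) (v : V F) : Y (-t) (Y t v) = v := by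
  rw [← Y_inv]
  exact (Y t).symm_apply_apply v

theorem Y_Y_neg (t : F) (v : V F) : Y t (Y (-t) v) = v := by
  have := Y_neg_Y (-t) v
  rwa [neg_neg] at this

theorem conj_eq {t : F} {g : V F ≃ₗ[F] V F} (hg : g ∈ TO F) :
    (M.x t)⁻¹ * M.rhoG ⟨g, hg⟩ * M.x t =
      M.rhoG ⟨C (-t) * g * C t, (TO F).mul_mem ((TO F).mul_mem (sp_YC (-t)).mem_TO hg) (sp_YC t).mem_TO⟩ := by
  rw [M.x_inv, Md.x, Md.x, ← map_mul, ← map_mul]
  rfl

/-- membership in `P ∩ P^x` -/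
theorem conj_mem_iff {t : F} (ht : t ≠ 0) {g : V F ≃ₗ[F] V F} (hg : g ∈ AutO F) :
    (M.x t)⁻¹ * M.rhoG ⟨g, AutO_le_TO hg⟩ * M.x t ∈ M.P0 ↔ g u6 = u6 := by
  have hsp : Sp (Y (-t) * g * Y t) (C (-t) * g * C t) := ((sp_YC (-t)).mul (sp_aut hg)).mul (sp_YC t)
  rw [conj_eq, M.mem_P0]
  constructor
  · rintro ⟨f, hf, e⟩
    obtain ⟨a, ha⟩ := hsp.o_of_eq hf (M.rhoG_eq_iff.1 e.symm)
    rw [LinearEquiv.mul_apply, LinearEquiv.mul_apply] at ha
    have h1 : g (Y t o) = a • Y t o := by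
      rw [← Y_Y_neg t (g (Y t o)), ha, map_smul]
    have hn : nm (Y t (o : V F)) = 1 := by rw [(sp_YC t).iso, nm_o]
    have htr : tr (Y t (o : V F)) = 2 := by
      rw [Y_o, tr_add, tr_o, tr_smul]
      simp [tr, u6]
    have h2 := congrArg nm h1
    rw [map_nm hg, nm_smul, hn] at h2
    have h3 := congrArg tr h1
    rw [map_tr hg, tr_smul, htr] at h3
    have h4 : (a - 1) ^ 2 = 0 := by linear_combination h3 - h2
    have h5 : a = 1 := by
      have := pow_eq_zero_iff (two_ne_zero) |>.1 h4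
      linear_combination this
    rw [h5, one_smul, Y_o, map_add, map_o hg, map_smul] at h1
    exact smul_right_injective _ ht (add_left_cancel h1)
  · intro h1
    have h2 : (Y (-t) * g * Y t) o = o := by
      rw [LinearEquiv.mul_apply, LinearEquiv.mul_apply, Y_o, map_add, map_o hg, map_smul, h1, ← Y_o, Y_neg_Y]
    obtain ⟨h3, h4⟩ := hsp.mem_AutO h2
    refine ⟨_, h3, M.rhoG_eq_iff.2 fun z hz => ⟨0, ?_⟩⟩
    rw [zero_smul, add_zero]
    exact (h4 z hz).symm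

theorem tau_u6 : tau (![1, 0, 0] : Fin 3 → F) u6 = u6 := by
  rw [tau_apply]
  apply ext8
  · rw [tau0]; simp [u6]
  · rw [tau1]; simp [u6]
  · rw [tau2]; simp [u6]
  · rw [tau3]; simp [u6]
  · rw [tau4]; simp [u6]
  · rw [tau5]; simp [u6]
  · rw [tau6]; simp [u6]
  · rw [tau7]; simp [u6]

/-- **The data for `P0`.** -/
theorem Md.kd {t : F} (ht : t ≠ 0) {s : F} (hs : s ≠ 0) (hs1 : s ≠ 1) :
    KD M.P0 (M.x t) (M.rhoG ⟨dg hs, AutO_le_TO (dg_mem hs)⟩) where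
  mem := M.mem_P0.2 ⟨_, dg_mem hs, rfl⟩
  k1 := by
    intro g hg hgx
    obtain ⟨f, hf, rfl⟩ := M.mem_P0.1 hg
    rw [conj_mem_iff M ht hf] at hgx
    have h1 : dg hs * f * (dg hs)⁻¹ ∈ AutO F := (AutO F).mul_mem ((AutO F).mul_mem (dg_mem hs) hf) ((AutO F).inv_mem (dg_mem hs))
    have h2 : M.rhoG ⟨dg hs, AutO_le_TO (dg_mem hs)⟩ * M.rhoG ⟨f, AutO_le_TO hf⟩ *
        (M.rhoG ⟨dg hs, AutO_le_TO (dg_mem hs)⟩)⁻¹ = M.rhoG ⟨_, AutO_le_TO h1⟩ := by
      rw [← map_inv, ← map_mul, ← map_mul]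
      rfl
    rw [h2, conj_mem_iff M ht h1, LinearEquiv.mul_apply, LinearEquiv.mul_apply]
    have h3 : (dg hs)⁻¹ (u6 : V F) = s⁻¹ • u6 := by
      apply (dg hs).injective
      rw [map_smul, dg_u6, smul_smul, inv_mul_cancel₀ hs, one_smul]
      exact (dg hs).apply_symm_apply u6
    rw [h3, map_smul, hgx, map_smul, dg_u6, smul_smul, inv_mul_cancel₀ hs, one_smul]
  k2 := by
    intro hall
    set q : V F := Y (-t) ((dg hs)⁻¹ (Y t o)) with hq
    have hb : (dg hs)⁻¹ ∈ AutO F := (AutO F).inv_mem (dg_mem hs)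
    have key : ∀ g ∈ AutO F, ∃ a : F, g q = a • q := by
      intro g hg
      have h1 := hall _ (M.mem_P0.2 ⟨g, hg, rfl⟩)
      have e1 : (M.x t)⁻¹ * M.rhoG ⟨dg hs, AutO_le_TO (dg_mem hs)⟩ * M.x t * M.rhoG ⟨g, AutO_le_TO hg⟩ *
          ((M.x t)⁻¹ * M.rhoG ⟨dg hs, AutO_le_TO (dg_mem hs)⟩ * M.x t)⁻¹ =
          ((M.x t)⁻¹ * M.rhoG ⟨dg hs, AutO_le_TO (dg_mem hs)⟩ * M.x t) * M.rhoG ⟨g, AutO_le_TO hg⟩ *
          ((M.x t)⁻¹ * M.rhoG ⟨(dg hs)⁻¹, AutO_le_TO hb⟩ * M.x t) := by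
        have e2 : M.rhoG ⟨(dg hs)⁻¹, AutO_le_TO hb⟩ = (M.rhoG ⟨dg hs, AutO_le_TO (dg_mem hs)⟩)⁻¹ := by
          rw [← map_inv]
          rfl
        rw [e2]
        group
      rw [e1, conj_eq, conj_eq, ← map_mul, ← map_mul, M.mem_P0] at h1
      obtain ⟨f, hf, e⟩ := h1
      have hsp : Sp ((Y (-t) * dg hs * Y t) * g * (Y (-t) * (dg hs)⁻¹ * Y t))
          ((C (-t) * dg hs * C t) * g * (C (-t) * (dg hs)⁻¹ * C t)) :=
        ((((sp_YC (-t)).mul (sp_aut (dg_mem hs))).mul (sp_YC t)).mul (sp_aut hg)).mul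
          (((sp_YC (-t)).mul (sp_aut hb)).mul (sp_YC t))
      obtain ⟨a, ha⟩ := hsp.o_of_eq hf (M.rhoG_eq_iff.1 e.symm)
      refine ⟨a, ?_⟩
      have h2 : Y (-t) (dg hs (Y t (g q))) = a • o := ha
      have h3 : g q = Y (-t) ((dg hs)⁻¹ (Y t (Y (-t) (dg hs (Y t (g q)))))) := by
        rw [Y_Y_neg]
        have h4 : (dg hs)⁻¹ (dg hs (Y t (g q))) = Y t (g q) := (dg hs).symm_apply_apply _
        rw [h4, Y_neg_Y]
      rw [h3, h2, map_smul, map_smul, map_smul]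
    have h5 := inv_line key
    have h6 : (dg hs)⁻¹ (Y t o) = q 0 • Y t o := by
      rw [← Y_Y_neg t ((dg hs)⁻¹ (Y t o)), ← hq]
      conv_lhs => rw [h5]
      rw [map_smul]
    have h7 : Y t o = q 0 • dg hs (Y t o) := by
      have h8 : dg hs ((dg hs)⁻¹ (Y t o)) = (Y t o : V F) := (dg hs).apply_symm_apply _
      rw [h6, map_smul] at h8
      exact h8.symm
    rw [Y_o, map_add, map_smul, dg_u6, map_o (dg_mem hs)] at h7
    have c0 := congrFun h7 0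
    have c6 := congrFun h7 6
    have z0 : (u6 : V F) 0 = 0 := rfl
    have z6 : (u6 : V F) 6 = 1 := rfl
    simp only [Pi.add_apply, Pi.smul_apply, smul_eq_mul, o0, o6, z0, z6] at c0 c6
    have c0' : q 0 = 1 := by linear_combination -c0
    rw [c0'] at c6
    apply hs1
    have h9 : t * (1 - s) = 0 := by linear_combination c6
    have := (mul_eq_zero.1 h9).resolve_left ht
    linear_combination -this
  k4 := by
    refine ⟨_, M.mem_P0.2 ⟨tau ![1, 0, 0], tau_mem _, rfl⟩, ?_, (conj_mem_iff M ht (tau_mem _)).2 tau_u6⟩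
    intro h1
    have h2 := M.rhoG_eq_iff.1 (h1.trans (map_one M.rhoG).symm) ![0, 0, 1, 0, 0, 0, 0, 0] (by simp [tr])
    obtain ⟨a, ha⟩ := h2
    have h3 := congrFun ha 6
    change tauF ![1, 0, 0] ![0, 0, 1, 0, 0, 0, 0, 0] 6 = _ at h3
    rw [tau6] at h3
    simp [o6] at h3

end

/-! ### transport -/

theorem KD.map {G H : Type*} [Group G] [Group H] {P : Subgroup G} {x b : G} (h : KD P x b) (f : G →* H)
    (hf : Function.Injective f) : KD (P.map f) (f x) (f b) where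
  mem := mem_map_of_mem f h.mem
  k1 := by
    rintro _ ⟨g, hg, rfl⟩ h1
    rw [← map_inv, ← map_mul, ← map_mul] at h1
    obtain ⟨k, hk, e⟩ := h1
    have h2 := h.k1 g hg (by rw [← hf e]; exact hk)
    refine ⟨_, h2, ?_⟩
    simp only [map_mul, map_inv]
  k2 := by
    intro h1
    apply h.k2
    intro g hg
    obtain ⟨k, hk, e⟩ := h1 (f g) (mem_map_of_mem f hg)
    have h2 : f k = f ((x⁻¹ * b * x) * g * (x⁻¹ * b * x)⁻¹) := by
      rw [e]
      simp only [map_mul, map_inv]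
    rw [← hf h2]
    exact hk
  k4 := by
    obtain ⟨g, hg, hg1, h1⟩ := h.k4
    refine ⟨f g, mem_map_of_mem f hg, fun e => hg1 (hf (e.trans (map_one f).symm)), ?_⟩
    refine ⟨_, h1, ?_⟩
    simp only [map_mul, map_inv]

theorem KD.of_map {G H : Type*} [Group G] [Group H] {P : Subgroup G} {x b : G} (f : G →* H)
    (hf : Function.Injective f) (h : KD (P.map f) (f x) (f b)) : KD P x b where
  mem := by
    obtain ⟨k, hk, e⟩ := h.mem
    rw [← hf e]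
    exact hk
  k1 := by
    intro g hg h1
    have h2 := h.k1 (f g) (mem_map_of_mem f hg) ⟨_, h1, by simp only [map_mul, map_inv]⟩
    obtain ⟨k, hk, e⟩ := h2
    have h3 : f k = f (x⁻¹ * (b * g * b⁻¹) * x) := by
      rw [e]
      simp only [map_mul, map_inv]
    rw [← hf h3]
    exact hk
  k2 := by
    intro h1
    apply h.k2
    rintro _ ⟨g, hg, rfl⟩
    exact ⟨_, h1 g hg, by simp only [map_mul, map_inv]⟩
  k4 := by
    obtain ⟨_, ⟨g, hg, rfl⟩, hg1, ⟨k, hk, e⟩⟩ := h.k4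
    refine ⟨g, hg, fun e => hg1 (by rw [e, map_one]), ?_⟩
    have h3 : f k = f (x⁻¹ * g * x) := by
      rw [e]
      simp only [map_mul, map_inv]
    rw [← hf h3]
    exact hk

/-! ### the kill -/

/-- `N` is characteristic under `Γ` -/
theorem soc_inv {Q : Type*} [Group Q] [Finite Q] {A : Subgroup Q} {Γ : Subgroup (MulAut Q)} (h : EPT A Γ)
    {N : Subgroup Q} (hN : N ≤ A) (hn : ∀ a ∈ A, ∀ n ∈ N, a * n * a⁻¹ ∈ N)
    (hc : ∀ a ∈ A, (∀ n ∈ N, a * n = n * a) → a = 1) (hs : IsSimpleGroup N) {σ : MulAut Q} (hσ : σ ∈ Γ) :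
    ∀ n ∈ N, σ n ∈ N := by
  have hne : N ≠ ⊥ := by
    intro e
    have := hs.toNontrivial
    rw [e] at this
    exact not_nontrivial _ this
  set N' : Subgroup Q := N.map (σ : Q ≃* Q).toMonoidHom with hN'
  have hN'A : N' ≤ A := by
    rintro _ ⟨n, hn1, rfl⟩
    exact (h.inv σ hσ n).2 (hN hn1)
  have hn' : ∀ a ∈ A, ∀ n ∈ N', a * n * a⁻¹ ∈ N' := by
    rintro a ha _ ⟨n, hn1, rfl⟩
    have h1 : σ⁻¹ a ∈ A := by
      rw [← h.inv σ hσ]
      have : σ (σ⁻¹ a) = a := σ.apply_symm_apply a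
      rw [this]
      exact ha
    refine ⟨σ⁻¹ a * n * (σ⁻¹ a)⁻¹, hn _ h1 n hn1, ?_⟩
    show σ _ = a * σ n * a⁻¹
    have : σ (σ⁻¹ a) = a := σ.apply_symm_apply a
    rw [map_mul, map_mul, map_inv, this]
  have hnor : ((N ⊓ N').subgroupOf N).Normal := ⟨by
    rintro ⟨n, hn1⟩ hnn ⟨a, ha⟩
    exact ⟨N.mul_mem (N.mul_mem ha hn1) (N.inv_mem ha), hn' a (hN ha) n hnn.2⟩⟩
  rcases hnor.eq_bot_or_eq_top with h1 | h1
  · exfalso
    have h2 : N ⊓ N' = ⊥ := by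
      rw [Subgroup.eq_bot_iff_forall]
      intro k hk
      have h3 : (⟨k, hk.1⟩ : N) ∈ (N ⊓ N').subgroupOf N := hk
      rw [h1, mem_bot] at h3
      exact congrArg Subtype.val h3
    have h3 : ∀ k ∈ N', k = 1 := by
      intro k hk
      apply hc k (hN'A hk)
      intro n hn1
      have h4 : k * n * k⁻¹ * n⁻¹ ∈ N ⊓ N' := by
        refine ⟨N.mul_mem (hn k (hN'A hk) n hn1) (N.inv_mem hn1), ?_⟩
        have : k * n * k⁻¹ * n⁻¹ = k * (n * k⁻¹ * n⁻¹) := by group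
        rw [this]
        exact N'.mul_mem hk (hn' n (hN hn1) _ (N'.inv_mem hk))
      rw [h2, mem_bot] at h4
      rw [mul_inv_eq_one, mul_inv_eq_iff_eq_mul] at h4
      exact h4
    apply hne
    rw [Subgroup.eq_bot_iff_forall]
    intro n hn1
    have h4 := h3 (σ n) ⟨n, hn1, rfl⟩
    exact (σ : Q ≃* Q).injective (h4.trans (map_one σ).symm)
  · have h2 : N ≤ N' := by
      intro n hn1
      have h3 : (⟨n, hn1⟩ : N) ∈ (N ⊓ N').subgroupOf N := by rw [h1]; exact mem_top _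
      exact h3.2
    have h3 : Nat.card N' = Nat.card N :=
      Nat.card_congr (N.equivMapOfInjective _ (σ : Q ≃* Q).injective).toEquiv.symm
    have h4 : N = N' := Subgroup.eq_of_le_of_card_ge h2 h3.le
    intro n hn1
    rw [h4]
    exact ⟨n, hn1, rfl⟩

/-- **The kill.** -/
theorem ept_kill {Q : Type*} [Group Q] [Finite Q] {A : Subgroup Q} {Γ : Subgroup (MulAut Q)} (h : EPT A Γ)
    {N : Subgroup Q} (hN : N ≤ A) (hn : ∀ a ∈ A, ∀ n ∈ N, a * n * a⁻¹ ∈ N)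
    (hc : ∀ a ∈ A, (∀ n ∈ N, a * n = n * a) → a = 1) (hs : IsSimpleGroup N) {x b : Q} (hK : KD N x b) : False := by
  have hx : x ∉ A := by
    intro hx
    apply hK.k2
    intro g hg
    have h1 : x⁻¹ * b * x ∈ A := A.mul_mem (A.mul_mem (A.inv_mem hx) (hN hK.mem)) hx
    exact hn _ h1 g hg
  have hinv : ∀ σ ∈ Γ, ∀ n ∈ N, σ n ∈ N := fun σ hσ => soc_inv h hN hn hc hs hσ
  have h1 := h.norm x hx (N ⊓ cj x N) (inf_le_inf hN (cj_mono hN)) ?_ ?_ (MulAut.conj b)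
    ((h.conj b).2 (hN hK.mem)) ?_
  · have h2 : x⁻¹ * b * x ∈ A := by
      have e : x⁻¹ * b * x = x⁻¹ * (MulAut.conj b x) * b := by
        rw [MulAut.conj_apply]
        group
      rw [e]
      exact A.mul_mem h1 (hN hK.mem)
    exact hK.k2 fun g hg => hn _ h2 g hg
  · intro σ hσ hσx k hk
    refine ⟨hinv σ hσ k hk.1, mem_cj.2 ?_⟩
    obtain ⟨n, hn1, rfl⟩ := hk.2
    have e : x⁻¹ * σ ((MulAut.conj x).toMonoidHom n) * x = (x⁻¹ * σ x) * σ n * (x⁻¹ * σ x)⁻¹ := by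
      show x⁻¹ * σ (x * n * x⁻¹) * x = _
      rw [map_mul, map_mul, map_inv]
      group
    rw [e]
    exact hn _ hσx _ (hinv σ hσ n hn1)
  · intro e
    obtain ⟨g, hg, hg1, hgx⟩ := hK.k4
    apply hg1
    have h2 : g ∈ N ⊓ cj x N := ⟨hg, mem_cj.2 hgx⟩
    rw [e, mem_bot] at h2
    exact h2
  · intro k hk
    rw [MulAut.conj_apply]
    refine ⟨N.mul_mem (N.mul_mem hK.mem hk.1) (N.inv_mem hK.mem), mem_cj.2 ?_⟩
    exact hK.k1 k hk.1 (mem_cj.1 hk.2)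

end Cfsg.Agent.H870.GE
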