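import Cfsg.Agent.H870.GE.Spin

/-!
# The modules of dimension 7 and 6 for `G₂(F)` (helper870, for S3499)

`Md ι F` : a space `ι → F` identified with the octonions of trace zero modulo the scalars among them.
-/

set_option autoImplicit false
set_option linter.unusedSimpArgs false

namespace Cfsg.Agent.H870.GE

open Cfsg.Lie Cfsg.Agent.H161.Oct
open scoped Matrix

variable {F : Type*} [Field F]

/-- the model of the octonions of trace zero -/
structure Md (ι : Type) (F : Type*) [Field F] where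
  inc : (ι → F) →ₗ[F] V F
  cor : V F →ₗ[F] (ι → F)
  cor_inc : ∀ v, cor (inc v) = v
  tr_inc : ∀ v, tr (inc v) = 0
  inc_cor : ∀ z, tr z = 0 → ∃ a : F, inc (cor z) = z + a • o
  ker : ∀ a : F, tr (a • o : V F) = 0 → cor (a • o) = 0

/-- linear maps fixing the identity and the trace -/
def TO (F : Type*) [Field F] : Subgroup (V F ≃ₗ[F] V F) where
  carrier := {c | c o = o ∧ ∀ z, tr (c z) = tr z}
  mul_mem' {a b} ha hb := ⟨by rw [LinearEquiv.mul_apply, hb.1, ha.1], fun z => by
    rw [LinearEquiv.mul_apply, ha.2, hb.2]⟩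
  one_mem' := ⟨rfl, fun z => rfl⟩
  inv_mem' {a} ha := ⟨by
      have h1 : a⁻¹ (a o) = (o : V F) := a.symm_apply_apply o
      rw [ha.1] at h1
      exact h1, fun z => by
      have h1 : a (a⁻¹ z) = z := a.apply_symm_apply z
      rw [← ha.2 (a⁻¹ z), h1]⟩

theorem mem_TO {c : V F ≃ₗ[F] V F} : c ∈ TO F ↔ c o = o ∧ ∀ z, tr (c z) = tr z := Iff.rfl

theorem AutO_le_TO : AutO F ≤ TO F := fun _ hg => ⟨map_o hg, map_tr hg⟩

theorem Sp.mem_TO {y c : V F ≃ₗ[F] V F} (h : Sp y c) : c ∈ TO F := ⟨h.oo, h.tr0⟩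

namespace Md

variable {ι : Type} (M : Md ι F)

theorem cor_add_o {z : V F} (hz : tr z = 0) {a : F} (h : tr (z + a • o) = 0) : M.cor (z + a • o) = M.cor z := by
  rw [map_add, M.ker a, add_zero]
  rw [tr_add, hz, zero_add] at h
  exact h

/-- the representation -/
noncomputable def rho : ↥(TO F) →* ((ι → F) →ₗ[F] (ι → F)) where
  toFun f := M.cor.comp ((f : V F ≃ₗ[F] V F).toLinearMap.comp M.inc)
  map_one' := LinearMap.ext fun v => M.cor_inc v
  map_mul' f g := by
    refine LinearMap.ext fun v => ?_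
    show M.cor (f.1 (g.1 (M.inc v))) = M.cor (f.1 (M.inc (M.cor (g.1 (M.inc v)))))
    have h0 : tr (g.1 (M.inc v)) = 0 := by rw [g.2.2, M.tr_inc]
    obtain ⟨a, ha⟩ := M.inc_cor _ h0
    have h1 : tr (g.1 (M.inc v) + a • o) = 0 := by rw [← ha, M.tr_inc]
    have h2 : f.1 (g.1 (M.inc v) + a • o) = f.1 (g.1 (M.inc v)) + a • o := by rw [map_add, map_smul, f.2.1]
    have h3 : tr (f.1 (g.1 (M.inc v))) = 0 := by rw [f.2.2, h0]
    rw [ha, h2, M.cor_add_o h3]
    rw [tr_add, h0, zero_add] at h1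
    rw [tr_add, h1, h3, zero_add]

theorem rho_apply (f : ↥(TO F)) (v : ι → F) : M.rho f v = M.cor (f.1 (M.inc v)) := rfl

theorem inc_rho (f : ↥(TO F)) (v : ι → F) : ∃ a : F, M.inc (M.rho f v) = f.1 (M.inc v) + a • o := by
  have h0 : tr (f.1 (M.inc v)) = 0 := by rw [f.2.2, M.tr_inc]
  exact M.inc_cor _ h0

/-- equality in the representation -/
theorem rho_eq_iff {f g : ↥(TO F)} : M.rho f = M.rho g ↔ ∀ z, tr z = 0 → ∃ a : F, f.1 z = g.1 z + a • o := by
  constructor
  · intro h z hz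
    obtain ⟨a, ha⟩ := M.inc_cor z hz
    obtain ⟨b, hb⟩ := M.inc_rho f (M.cor z)
    obtain ⟨c, hc⟩ := M.inc_rho g (M.cor z)
    rw [h, hc, ha, map_add, map_add, map_smul, map_smul, f.2.1, g.2.1] at hb
    refine ⟨c - b, ?_⟩
    rw [sub_smul]
    have h1 : f.1 z = g.1 z + a • o + c • o - (b • o + a • o) := by
      rw [eq_sub_iff_add_eq, hb]
      abel
    rw [h1]
    abel
  · intro h
    refine LinearMap.ext fun v => ?_
    obtain ⟨a, ha⟩ := h (M.inc v) (M.tr_inc v)
    rw [rho_apply, rho_apply, ha, M.cor_add_o]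
    · rw [g.2.2, M.tr_inc]
    · rw [← ha, f.2.2, M.tr_inc]

variable [Fintype ι] [DecidableEq ι]

/-- the representation by matrices -/
noncomputable def rhoG : ↥(TO F) →* GL ι F :=
  (LinearMap.toMatrixAlgEquiv' : ((ι → F) →ₗ[F] (ι → F)) ≃ₐ[F] Matrix ι ι F).toMonoidHom.comp
    M.rho |>.toHomUnits

theorem rhoG_mulVec (f : ↥(TO F)) (v : ι → F) :
    ((M.rhoG f : GL ι F) : Matrix ι ι F) *ᵥ v = M.rho f v := by
  show (LinearMap.toMatrixAlgEquiv' (M.rho f)) *ᵥ v = M.rho f v
  rw [← Matrix.toLin'_apply]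
  exact LinearMap.congr_fun (Matrix.toLinAlgEquiv'_toMatrixAlgEquiv' (M.rho f)) v

theorem rhoG_eq_iff {f g : ↥(TO F)} : M.rhoG f = M.rhoG g ↔ ∀ z, tr z = 0 → ∃ a : F, f.1 z = g.1 z + a • o := by
  rw [← rho_eq_iff]
  constructor
  · intro h
    refine LinearMap.ext fun v => ?_
    rw [← M.rhoG_mulVec f v, ← M.rhoG_mulVec g v, h]
  · intro h
    have h1 : ((M.rhoG f : GL ι F) : Matrix ι ι F) = ((M.rhoG g : GL ι F) : Matrix ι ι F) := by
      refine (Matrix.toLin' : Matrix ι ι F ≃ₗ[F] _).injective (LinearMap.ext fun v => ?_)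
      rw [Matrix.toLin'_apply, Matrix.toLin'_apply, rhoG_mulVec, rhoG_mulVec, h]
    exact Units.ext h1

/-- the image of the automorphism group of the octonions -/
noncomputable def P0 : Subgroup (GL ι F) := ((AutO F).subgroupOf (TO F)).map M.rhoG

theorem mem_P0 {g : GL ι F} : g ∈ M.P0 ↔ ∃ f, ∃ hf : f ∈ AutO F, M.rhoG ⟨f, AutO_le_TO hf⟩ = g := by
  constructor
  · rintro ⟨⟨f, hf⟩, h, rfl⟩
    exact ⟨f, h, rfl⟩
  · rintro ⟨f, hf, rfl⟩
    exact ⟨⟨f, AutO_le_TO hf⟩, hf, rfl⟩

/-- `C t` in the representation -/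
noncomputable def x (t : F) : GL ι F := M.rhoG ⟨C t, (sp_YC t).mem_TO⟩

theorem x_inv (t : F) : (M.x t)⁻¹ = M.x (-t) := by
  rw [x, x, ← map_inv]
  congr 1
  exact Subtype.ext (C_inv t)

end Md

/-! ### the facts -/

/-- the diagonal automorphism -/
def dgF (s : F) (x : V F) : V F := ![x 0, s * x 1, x 2, s⁻¹ * x 3, s⁻¹ * x 4, x 5, s * x 6, x 7]

theorem dgF0 (s : F) (x : V F) : dgF s x 0 = x 0 := rfl
theorem dgF1 (s : F) (x : V F) : dgF s x 1 = s * x 1 := rfl
theorem dgF2 (s : F) (x : V F) : dgF s x 2 = x 2 := rfl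
theorem dgF3 (s : F) (x : V F) : dgF s x 3 = s⁻¹ * x 3 := rfl
theorem dgF4 (s : F) (x : V F) : dgF s x 4 = s⁻¹ * x 4 := rfl
theorem dgF5 (s : F) (x : V F) : dgF s x 5 = x 5 := rfl
theorem dgF6 (s : F) (x : V F) : dgF s x 6 = s * x 6 := rfl
theorem dgF7 (s : F) (x : V F) : dgF s x 7 = x 7 := rfl

/-- the diagonal automorphism -/
def dg {s : F} (hs : s ≠ 0) : V F ≃ₗ[F] V F where
  toFun := dgF s
  map_add' x y := by
    apply ext8 <;> simp only [dgF0, dgF1, dgF2, dgF3, dgF4, dgF5, dgF6, dgF7, Pi.add_apply] <;> ring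
  map_smul' c x := by
    apply ext8 <;> simp only [dgF0, dgF1, dgF2, dgF3, dgF4, dgF5, dgF6, dgF7, Pi.smul_apply, smul_eq_mul,
      RingHom.id_apply] <;> ring
  invFun := dgF s⁻¹
  left_inv x := by
    apply ext8 <;> simp only [dgF0, dgF1, dgF2, dgF3, dgF4, dgF5, dgF6, dgF7] <;> field_simp
  right_inv x := by
    apply ext8 <;> simp only [dgF0, dgF1, dgF2, dgF3, dgF4, dgF5, dgF6, dgF7] <;> field_simp

theorem dg_apply {s : F} (hs : s ≠ 0) (x : V F) : dg hs x = dgF s x := rfl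

theorem dgF_mul {s : F} (hs : s ≠ 0) (x y : V F) : dgF s (zornMul x y) = zornMul (dgF s x) (dgF s y) := by
  apply ext8
  · rw [dgF0, mul0, mul0, dgF0, dgF0, dgF1, dgF2, dgF3, dgF4, dgF5, dgF6]; field_simp
  · rw [dgF1, mul1, mul1, dgF0, dgF1, dgF1, dgF7, dgF5, dgF6, dgF6, dgF5]; ring
  · rw [dgF2, mul2, mul2, dgF0, dgF2, dgF2, dgF7, dgF4, dgF6, dgF6, dgF4]; field_simp
  · rw [dgF3, mul3, mul3, dgF0, dgF3, dgF3, dgF7, dgF4, dgF5, dgF5, dgF4]; ring
  · rw [dgF4, mul4, mul4, dgF0, dgF4, dgF4, dgF7, dgF2, dgF3, dgF3, dgF2]; ring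
  · rw [dgF5, mul5, mul5, dgF0, dgF5, dgF5, dgF7, dgF1, dgF3, dgF3, dgF1]; field_simp
  · rw [dgF6, mul6, mul6, dgF0, dgF6, dgF6, dgF7, dgF2, dgF1, dgF1, dgF2]; ring
  · rw [dgF7, mul7, mul7, dgF7, dgF7, dgF1, dgF2, dgF3, dgF4, dgF5, dgF6]; field_simp

theorem dg_mem {s : F} (hs : s ≠ 0) : dg hs ∈ AutO F := fun x y => dgF_mul hs x y

/-- the vector `E₆` -/
def u6 : V F := ![0, 0, 0, 0, 0, 0, 1, 0]

theorem Y_o (t : F) : Y t o = o + t • u6 := by
  rw [Y_apply]
  apply ext8
  · rw [YF0]; simp [o0, o3, u6]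
  · rw [YF1]; simp [o1, u6]
  · rw [YF2]; simp [o2, u6]
  · rw [YF3]; simp [o3, u6]
  · rw [YF4]; simp [o4, u6]
  · rw [YF5]; simp [o5, u6]
  · rw [YF6]; simp [o6, o7, u6]
  · rw [YF7]; simp [o7, u6]

theorem dg_u6 {s : F} (hs : s ≠ 0) : dg hs (u6 : V F) = s • u6 := by
  rw [dg_apply]
  apply ext8
  · rw [dgF0]; simp [u6]
  · rw [dgF1]; simp [u6]
  · rw [dgF2]; simp [u6]
  · rw [dgF3]; simp [u6]
  · rw [dgF4]; simp [u6]
  · rw [dgF5]; simp [u6]
  · rw [dgF6]; simp [u6]
  · rw [dgF7]; simp [u6]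

/-- only the scalars span lines invariant under the automorphism group -/
theorem inv_line {v : V F} (h : ∀ g ∈ AutO F, ∃ a : F, g v = a • v) : v = v 0 • o := by
  have key : ∀ p : Fin 3 → F, ∃ a : F, tauF p v = a • v := fun p => h (tau p) (tau_mem p)
  obtain ⟨a, ha⟩ := key ![1, 0, 0]
  obtain ⟨b, hb⟩ := key ![0, 1, 0]
  have a0 := congrFun ha 0
  have a1 := congrFun ha 1
  have a2 := congrFun ha 2
  have a3 := congrFun ha 3
  have a4 := congrFun ha 4
  have a5 := congrFun ha 5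
  have a6 := congrFun ha 6
  have a7 := congrFun ha 7
  have b0 := congrFun hb 0
  have b1 := congrFun hb 1
  have b2 := congrFun hb 2
  have b3 := congrFun hb 3
  have b4 := congrFun hb 4
  have b5 := congrFun hb 5
  have b6 := congrFun hb 6
  have b7 := congrFun hb 7
  simp only [tau0, tau1, tau2, tau3, tau4, tau5, tau6, tau7, Pi.smul_apply, smul_eq_mul, Matrix.cons_val_zero,
    Matrix.cons_val_one, Matrix.cons_val, one_mul, zero_mul, mul_one, mul_zero, add_zero, zero_add, sub_zero, zero_sub,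
    sub_neg_eq_add] at a0 a1 a2 a3 a4 a5 a6 a7 b0 b1 b2 b3 b4 b5 b6 b7
  by_cases h1 : a = 1
  · subst h1
    by_cases h2 : b = 1
    · subst h2
      have v4 : v 4 = 0 := by linear_combination a0
      have v5 : v 5 = 0 := by linear_combination b0
      have v3 : v 3 = 0 := by linear_combination a5
      have v2 : v 2 = 0 := by linear_combination -a6
      have v1 : v 1 = 0 := by linear_combination b6
      have v7 : v 7 = v 0 := by linear_combination a1 + v4
      -- the third one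
      obtain ⟨c, hc⟩ := key ![0, 0, 1]
      have c0 := congrFun hc 0
      have c3 := congrFun hc 3
      have c6 := congrFun hc 6
      have c7 := congrFun hc 7
      simp only [tau0, tau3, tau6, tau7, Pi.smul_apply, smul_eq_mul, Matrix.cons_val_zero,
        Matrix.cons_val_one, Matrix.cons_val, one_mul, zero_mul, mul_one, mul_zero, add_zero, zero_add, sub_zero, zero_sub,
        sub_neg_eq_add] at c0 c3 c6 c7
      have v6 : v 6 = 0 := by
        by_cases h3 : c = 1
        · subst h3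
          linear_combination c0
        · have h4 : (1 - c) * v 6 = 0 := by linear_combination c6
          exact (mul_eq_zero.1 h4).resolve_left (fun h => h3 (by linear_combination -h))
      apply ext8 <;> simp only [Pi.smul_apply, smul_eq_mul, o0, o1, o2, o3, o4, o5, o6, o7, v1, v2, v3, v4, v5, v6, v7] <;>
        ring
    · have z : ∀ w : F, w = b * w → w = 0 := fun w hw => by
        have h4 : (1 - b) * w = 0 := by linear_combination hw
        exact (mul_eq_zero.1 h4).resolve_left (fun h => h2 (by linear_combination -h))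
      have v5 := z _ b5
      have v1 := z _ b1
      have v3 := z _ b3
      have v0 := z (v 0) (by linear_combination b0 - v5)
      have v7 := z (v 7) (by linear_combination b7 + v5)
      have v4 := z (v 4) (by linear_combination b4 + v3)
      have v6 := z (v 6) (by linear_combination b6 - v1)
      have v2 := z (v 2) (by linear_combination b2 - v7 + v0 + v5)
      apply ext8 <;> simp only [Pi.smul_apply, smul_eq_mul, o0, o1, o2, o3, o4, o5, o6, o7, v0, v1, v2, v3, v4, v5, v6,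
        v7] <;> ring
  · have z : ∀ w : F, w = a * w → w = 0 := fun w hw => by
      have h4 : (1 - a) * w = 0 := by linear_combination hw
      exact (mul_eq_zero.1 h4).resolve_left (fun h => h1 (by linear_combination -h))
    have v4 := z _ a4
    have v2 := z _ a2
    have v3 := z _ a3
    have v0 := z (v 0) (by linear_combination a0 - v4)
    have v7 := z (v 7) (by linear_combination a7 + v4)
    have v5 := z (v 5) (by linear_combination a5 - v3)
    have v6 := z (v 6) (by linear_combination a6 + v2)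
    have v1 := z (v 1) (by linear_combination a1 - v7 + v0 + v4)
    apply ext8 <;> simp only [Pi.smul_apply, smul_eq_mul, o0, o1, o2, o3, o4, o5, o6, o7, v0, v1, v2, v3, v4, v5, v6,
      v7] <;> ring

end Cfsg.Agent.H870.GE
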