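import Cfsg.Agent.H870.GE.Twist
import Cfsg.Agent.H870.GE.Kill
import Cfsg.Agent.H870.GE.Coef
import Cfsg.Agent.H161.G2Emb

/-!
# Absolutely irreducible groups `G₂(F)` of dimension 6 or 7 over `F` are conjugate to `P0` (helper870, for S3499)
-/

set_option autoImplicit false
set_option linter.unusedSectionVars false
set_option linter.style.haveILetI false
set_option linter.unusedSimpArgs false

namespace Cfsg.Agent.H870.GE

open Cfsg Cfsg.Lie Cfsg.Geo Matrix Cfsg.Agent.H161.Oct Cfsg.Agent.H927.G2 Cfsg.Agent.H638 Cfsg.Agent.H905.Md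
  Cfsg.Agent.H911 Module
open Cfsg.Agent.H915.LD (Core core_of_residual)

/-! ### embeddings of a finite field -/

theorem exists_aut {F : Type*} [Field F] [Finite F] (j : F →+* AlgebraicClosure F) :
    ∃ τ : F ≃+* F, ∀ x, j x = algebraMap F (AlgebraicClosure F) (τ x) := by
  classical
  haveI := Fintype.ofFinite F
  set q := Fintype.card F with hq
  have hq1 : 1 < q := Fintype.one_lt_card
  set p : Polynomial (AlgebraicClosure F) := Polynomial.X ^ q - Polynomial.X with hp
  have hp0 : p ≠ 0 := FiniteField.X_pow_card_sub_X_ne_zero _ hq1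
  have hroot : ∀ y : AlgebraicClosure F, y ^ q = y → y ∈ p.roots.toFinset := by
    intro y hy
    rw [Multiset.mem_toFinset, Polynomial.mem_roots hp0, Polynomial.IsRoot.def, hp]
    simp [hy]
  have hsub : (Finset.univ.image (algebraMap F (AlgebraicClosure F))) ⊆ p.roots.toFinset := by
    intro y hy
    obtain ⟨x, -, rfl⟩ := Finset.mem_image.1 hy
    apply hroot
    rw [← map_pow, FiniteField.pow_card]
  have hcard : p.roots.toFinset.card ≤ (Finset.univ.image (algebraMap F (AlgebraicClosure F))).card := by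
    rw [Finset.card_image_of_injective _ (algebraMap F (AlgebraicClosure F)).injective, Finset.card_univ]
    refine (Multiset.toFinset_card_le _).trans ((Polynomial.card_roots' _).trans ?_)
    rw [hp, FiniteField.X_pow_card_sub_X_natDegree_eq _ hq1]
  have heq := Finset.eq_of_subset_of_card_le hsub hcard
  have hmem : ∀ x : F, ∃ y : F, algebraMap F (AlgebraicClosure F) y = j x := by
    intro x
    have h1 := hroot (j x) (by rw [← map_pow, FiniteField.pow_card])
    rw [← heq, Finset.mem_image] at h1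
    obtain ⟨y, -, hy⟩ := h1
    exact ⟨y, hy⟩
  choose s hs using hmem
  have hinj : Function.Injective (algebraMap F (AlgebraicClosure F)) := (algebraMap F (AlgebraicClosure F)).injective
  let σ : F →+* F :=
    { toFun := s
      map_one' := hinj (by rw [hs, map_one, map_one])
      map_mul' := fun a b => hinj (by rw [hs, map_mul, map_mul, hs, hs])
      map_zero' := hinj (by rw [hs, map_zero, map_zero])
      map_add' := fun a b => hinj (by rw [hs, map_add, map_add, hs, hs]) }
  exact ⟨RingEquiv.ofBijective σ (Finite.injective_iff_bijective.1 σ.injective), fun x => (hs x).symm⟩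

/-! ### the natural representation -/

section nat

variable {F : Type} [Field F] [Finite F] {ι : Type} [Fintype ι] [DecidableEq ι] (M : Md ι F)

theorem th_mem (g : GK F) : th F g ∈ Cfsg.Lie.G2 F :=
  G2Link.link_fst_mem ((MulEquiv.ofBijective (G2Link.toChev F) toChev_bijective).symm g).2

theorem th_surj {y : GL (Fin 8) F} (hy : y ∈ Cfsg.Lie.G2 F) : ∃ g : GK F, th F g = y := by
  haveI : Finite (GL (Fin 8) F × GL chevG2.Idx F) := inferInstance
  have h1 : Nat.card (G2Link.Link F) ≤ Nat.card (Cfsg.Lie.G2 F) := Nat.card_le_card_of_injective _ G2Link.toG2_injective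
  have h2 : Nat.card (chevG2.group F) ≤ Nat.card (G2Link.Link F) :=
    Nat.card_le_card_of_surjective _ G2Link.toChev_surjective
  obtain ⟨e⟩ := G2Iso.equiv (F := F)
  have h3 : Nat.card (Cfsg.Lie.G2 F) = Nat.card (chevG2.group F) := Nat.card_congr e.toEquiv
  have b1 : Function.Bijective (G2Link.toG2 F) :=
    (Nat.bijective_iff_injective_and_card _).2 ⟨G2Link.toG2_injective, by omega⟩
  obtain ⟨l, hl⟩ := b1.2 ⟨y, hy⟩
  refine ⟨G2Link.toChev F l, ?_⟩
  have h4 : (MulEquiv.ofBijective (G2Link.toChev F) toChev_bijective).symm (G2Link.toChev F l) = l := by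
    rw [MulEquiv.symm_apply_eq]
    rfl
  change ((MulEquiv.ofBijective (G2Link.toChev F) toChev_bijective).symm (G2Link.toChev F l)).1.1 = y
  rw [h4]
  exact congrArg Subtype.val hl

/-- the natural representation -/
noncomputable def nat : GK F →* GL ι F :=
  M.rhoG.comp (((toE F).toMonoidHom.comp (th F)).codRestrict (TO F) (fun g => AutO_le_TO (toE_mem.2 (th_mem g))))

theorem nat_apply (g : GK F) : nat M g = M.rhoG ⟨toE F (th F g), AutO_le_TO (toE_mem.2 (th_mem g))⟩ := rfl

theorem nat_range : (nat M).range = M.P0 := by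
  ext x
  rw [M.mem_P0]
  constructor
  · rintro ⟨g, rfl⟩
    exact ⟨_, toE_mem.2 (th_mem g), rfl⟩
  · rintro ⟨f, hf, rfl⟩
    have h1 : (toE F).symm f ∈ Cfsg.Lie.G2 F := by
      rw [← toE_mem, MulEquiv.apply_symm_apply]
      exact hf
    obtain ⟨g, hg⟩ := th_surj h1
    refine ⟨g, ?_⟩
    rw [nat_apply]
    congr 1
    apply Subtype.ext
    show toE F (th F g) = f
    rw [hg]
    exact (toE F).apply_symm_apply f

theorem nat_mulVec (g : GK F) (v : ι → F) : (nat M g : Matrix ι ι F) *ᵥ v = M.cor (a8 F g (M.inc v)) := by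
  rw [nat_apply, M.rhoG_mulVec, M.rho_apply]
  show M.cor (toE F (th F g) (M.inc v)) = _
  rw [toE_apply, a8_apply]

theorem tr_e8 : tr (e8 F) = 0 := by
  have h0 : e8 F 0 = 0 := Pi.single_eq_of_ne (by decide) 1
  have h7 : e8 F 7 = 0 := Pi.single_eq_of_ne (by decide) 1
  rw [tr, h0, h7, add_zero]

/-- the coefficient of the natural representation -/
theorem nat_coef (g : GK F) : M.inc ((nat M g : Matrix ι ι F) *ᵥ M.cor (e8 F)) 6 = x1 g := by
  rw [nat_mulVec]
  obtain ⟨a, ha⟩ := M.inc_cor (e8 F) tr_e8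
  have hg : toE F (th F g) ∈ AutO F := toE_mem.2 (th_mem g)
  have e1 : ∀ x, a8 F g x = toE F (th F g) x := fun x => by rw [toE_apply, a8_apply]
  rw [ha, e1, map_add, map_smul, map_o hg]
  have h1 : tr (toE F (th F g) (e8 F) + a • o) = 0 := by
    rw [tr_add, map_tr hg, ← tr_add, ← ha, M.tr_inc]
  obtain ⟨b, hb⟩ := M.inc_cor _ h1
  rw [hb, ← e1]
  simp only [Pi.add_apply, Pi.smul_apply, smul_eq_mul, o6, mul_zero, add_zero]
  rfl

end nat

/-! ### field automorphisms -/

section fld

variable {F : Type*} [Field F] {ι : Type} [Fintype ι] [DecidableEq ι]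

/-- `inc` and `cor` commute with field automorphisms -/
structure Md.Nat (M : Md ι F) : Prop where
  inc_map : ∀ (τ : F ≃+* F) (v : ι → F), M.inc (fun i => τ (v i)) = fun i => τ (M.inc v i)
  cor_map : ∀ (τ : F ≃+* F) (x : V F), M.cor (fun i => τ (x i)) = fun i => τ (M.cor x i)

theorem zorn_map (τ : F ≃+* F) (x y : V F) :
    zornMul (fun i => τ (x i)) (fun i => τ (y i)) = fun i => τ (zornMul x y i) := by
  apply ext8
  · rw [mul0, mul0]; simp only [map_add, map_mul, map_sub, true_and]
  · rw [mul1, mul1]; simp only [map_add, map_mul, map_sub, true_and]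
  · rw [mul2, mul2]; simp only [map_add, map_mul, map_sub, true_and]
  · rw [mul3, mul3]; simp only [map_add, map_mul, map_sub, true_and]
  · rw [mul4, mul4]; simp only [map_add, map_mul, map_sub, true_and]
  · rw [mul5, mul5]; simp only [map_add, map_mul, map_sub, true_and]
  · rw [mul6, mul6]; simp only [map_add, map_mul, map_sub, true_and]
  · rw [mul7, mul7]; simp only [map_add, map_mul, map_sub, true_and]

/-- the twist of a linear map -/
def twE (τ : F ≃+* F) (f : V F ≃ₗ[F] V F) : V F ≃ₗ[F] V F where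
  toFun x := fun i => τ (f (fun l => τ.symm (x l)) i)
  map_add' x y := by
    have h1 : (fun l => τ.symm ((x + y) l)) = (fun l => τ.symm (x l)) + fun l => τ.symm (y l) := by
      funext l
      simp
    funext i
    rw [h1, map_add, Pi.add_apply, Pi.add_apply, map_add]
  map_smul' c x := by
    have h1 : (fun l => τ.symm ((c • x) l)) = τ.symm c • fun l => τ.symm (x l) := by
      funext l
      simp
    funext i
    rw [h1, map_smul, Pi.smul_apply, Pi.smul_apply, smul_eq_mul, map_mul, RingEquiv.apply_symm_apply, RingHom.id_apply,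
      smul_eq_mul]
  invFun x := fun i => τ (f.symm (fun l => τ.symm (x l)) i)
  left_inv x := by
    funext i
    simp
  right_inv x := by
    funext i
    simp

theorem twE_apply (τ : F ≃+* F) (f : V F ≃ₗ[F] V F) (x : V F) : twE τ f x = fun i => τ (f (fun l => τ.symm (x l)) i) := rfl

theorem twE_mem (τ : F ≃+* F) {f : V F ≃ₗ[F] V F} (hf : f ∈ AutO F) : twE τ f ∈ AutO F := by
  intro x y
  rw [twE_apply, twE_apply, twE_apply, zorn_map, ← hf, zorn_map]

/-- `P0` is invariant under field automorphisms -/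
theorem Md.Nat.stable {M : Md ι F} (hM : M.Nat) (τ : F ≃+* F) {g : GL ι F} (hg : g ∈ M.P0) :
    ∃ g' ∈ M.P0, (g' : Matrix ι ι F) = (g : Matrix ι ι F).map τ := by
  obtain ⟨f, hf, rfl⟩ := M.mem_P0.1 hg
  refine ⟨_, M.mem_P0.2 ⟨_, twE_mem τ hf, rfl⟩, ?_⟩
  ext a b
  have h1 : ∀ A : Matrix ι ι F, A a b = (A *ᵥ Pi.single b 1) a := fun A => by
    rw [Matrix.mulVec_single_one]; rfl
  rw [Matrix.map_apply, h1 ((M.rhoG ⟨f, AutO_le_TO hf⟩ : GL ι F) : Matrix ι ι F), M.rhoG_mulVec]
  refine (h1 _).trans ?_
  rw [M.rhoG_mulVec, M.rho_apply, M.rho_apply]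
  have h2 : (fun l => τ.symm (M.inc (Pi.single b 1) l)) = M.inc (Pi.single b 1) := by
    rw [← hM.inc_map τ.symm]
    congr 1
    funext i
    by_cases hi : i = b
    · subst hi; simp
    · simp [hi]
  show M.cor (twE τ f (M.inc (Pi.single b 1))) a = _
  rw [twE_apply, h2, hM.cor_map]

end fld

end Cfsg.Agent.H870.GE
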