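import Cfsg.Agent.H870.GE.Rep

/-!
# Absolutely irreducible groups `G₂(F)` of dimension 6 or 7 over `F` are conjugate to `P0` (helper870, for S3499)
-/

set_option autoImplicit false
set_option linter.unusedSectionVars false
set_option linter.style.haveILetI false

namespace Cfsg.Agent.H870.GE

open Cfsg Cfsg.Lie Cfsg.Geo Matrix Cfsg.Agent.H161.Oct Cfsg.Agent.H927.G2 Cfsg.Agent.H638 Cfsg.Agent.H905.Md
  Cfsg.Agent.H911 Module
open Cfsg.Agent.H915.LD (Core core_of_residual)

variable {F : Type} [Field F] [Finite F] {ι : Type} [Fintype ι] [DecidableEq ι]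

/-- the natural representation twisted by a field embedding -/
noncomputable def natj (M : Md ι F) (j : F →+* AlgebraicClosure F) : GK F →* Matrix ι ι (AlgebraicClosure F) :=
  (j.mapMatrix (m := ι)).toMonoidHom.comp ((Units.coeHom (Matrix ι ι F)).comp (nat M))

theorem natj_apply (M : Md ι F) (j : F →+* AlgebraicClosure F) (g : GK F) :
    natj M j g = (nat M g : Matrix ι ι F).map j := rfl

/-- the functional -/
noncomputable def psj (M : Md ι F) (j : F →+* AlgebraicClosure F) :
    Module.Dual (AlgebraicClosure F) (ι → AlgebraicClosure F) :=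
  ∑ i, j (M.inc (Pi.single i 1) 6) • LinearMap.proj i

theorem psj_apply (M : Md ι F) (j : F →+* AlgebraicClosure F) (v : ι → F) :
    psj M j (fun i => j (v i)) = j (M.inc v 6) := by
  have h1 : M.inc v 6 = ∑ i, M.inc (Pi.single i 1) 6 * v i := by
    conv_lhs => rw [← Finset.univ_sum_single v, map_sum, Finset.sum_apply]
    refine Finset.sum_congr rfl fun i _ => ?_
    have h2 : (Pi.single i (v i) : ι → F) = v i • Pi.single i 1 := by
      rw [← Pi.single_smul, smul_eq_mul, mul_one]
    rw [h2, map_smul, Pi.smul_apply, smul_eq_mul, mul_comm]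
  rw [h1, map_sum, psj, LinearMap.sum_apply]
  refine Finset.sum_congr rfl fun i _ => ?_
  rw [LinearMap.smul_apply, LinearMap.proj_apply, smul_eq_mul, map_mul]

theorem psj_coef (M : Md ι F) (j : F →+* AlgebraicClosure F) (g : GK F) :
    psj M j (lin (natj M j) g (fun i => j (M.cor (e8 F) i))) = j (x1 g) := by
  rw [← nat_coef M g, ← psj_apply, lin_apply, natj_apply]
  congr 1
  funext i
  exact (RingHom.map_mulVec j (nat M g : Matrix ι ι F) (M.cor (e8 F)) i).symm

/-- **The identification of the representation.** -/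
theorem rep (p : ℕ) [hp : Fact p.Prime] [CharP F p] {P : Subgroup (GL ι F)} (hC : Core P) (h3 : 3 ≤ Nat.card F)
    (f : P ≃* GK F) (hn : Fintype.card ι ≤ 12) {M : Md ι F} (hM : M.Nat) :
    ∃ θ : GL ι F, P = M.P0.map (MulAut.conj θ).toMonoidHom := by
  haveI := hC.nonempty
  obtain ⟨f', v, hv, φ, hφ, j, hj⟩ := exists_x1 p hC h3 f hn
  obtain ⟨τ, hτ⟩ := exists_aut j
  have hirr : ∀ L : Submodule (AlgebraicClosure F) (ι → AlgebraicClosure F),
      (∀ g, ∀ w ∈ L, lin (acRep (repf f')) g w ∈ L) → L = ⊥ ∨ L = ⊤ :=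
    fun L hL => acRep_irr (repf_range f') (H920.span_eq_top hC.absIrred) (H := ⊤) rfl L fun g _ w hw => hL g w hw
  obtain ⟨T, hT0, hT⟩ := exists_intertwiner (ρ' := lin (natj M j)) hirr hφ hv
    (fun g => (hj g).trans (psj_coef M j g).symm) le_rfl
  -- the matrix
  set X : Matrix ι ι (AlgebraicClosure F) := LinearMap.toMatrix' T with hX
  have hX0 : X ≠ 0 := by
    intro h0
    apply hT0
    exact LinearMap.toMatrix'.injective (by rw [← hX, h0, map_zero])
  have hXT : ∀ u, X *ᵥ u = T u := fun u => by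
    rw [hX, ← Matrix.toLin'_apply, Matrix.toLin'_toMatrix']
  have hXg : ∀ g, X * ((nat M g : Matrix ι ι F).map τ).map (algebraMap F (AlgebraicClosure F)) =
      (repf f' g : Matrix ι ι F).map (algebraMap F (AlgebraicClosure F)) * X := by
    intro g
    have h1 : ((nat M g : Matrix ι ι F).map τ).map (algebraMap F (AlgebraicClosure F)) = natj M j g := by
      rw [natj_apply]
      ext a b
      rw [Matrix.map_apply, Matrix.map_apply, Matrix.map_apply, hτ]
    rw [h1]
    refine (Matrix.toLin' : Matrix ι ι (AlgebraicClosure F) ≃ₗ[AlgebraicClosure F] _).injective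
      (LinearMap.ext fun u => ?_)
    rw [Matrix.toLin'_apply, Matrix.toLin'_apply, ← Matrix.mulVec_mulVec, ← Matrix.mulVec_mulVec, hXT, hXT]
    have h2 := hT g u
    rw [lin_apply, lin_apply] at h2
    exact h2
  obtain ⟨X0, hX00, hX0g⟩ := descend (fun g => (repf f' g : Matrix ι ι F)) (fun g => (nat M g : Matrix ι ι F).map τ) hX0 hXg
  -- `X0` is invertible
  have htop : LinearMap.range (Matrix.toLin' X0) = ⊤ := by
    refine (hC.absIrred.1 _ ?_).resolve_left ?_
    · rintro _ ⟨x, hx, rfl⟩
      rw [SetLike.mem_coe, ← repf_range f'] at hx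
      obtain ⟨g, rfl⟩ := hx
      rintro _ ⟨_, ⟨u, rfl⟩, rfl⟩
      refine ⟨((nat M g : Matrix ι ι F).map τ) *ᵥ u, ?_⟩
      rw [Matrix.toLin'_apply, Matrix.toLin'_apply, Matrix.toLin'_apply, Matrix.mulVec_mulVec, Matrix.mulVec_mulVec, hX0g]
    · intro h0
      apply hX00
      rw [LinearMap.range_eq_bot] at h0
      exact (Matrix.toLin' : Matrix ι ι F ≃ₗ[F] _).injective (by rw [h0, map_zero])
  have hunit : IsUnit X0 := by
    rw [Matrix.isUnit_iff_isUnit_det, isUnit_iff_ne_zero]
    intro hdet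
    have h1 : Function.Injective (Matrix.toLin' X0) :=
      LinearMap.injective_iff_surjective.2 (LinearMap.range_eq_top.1 htop)
    obtain ⟨w, hw0, hw⟩ := (Matrix.exists_mulVec_eq_zero_iff (M := X0)).2 hdet
    apply hw0
    apply h1
    rw [Matrix.toLin'_apply, hw, map_zero]
  obtain ⟨θ, hθ⟩ := hunit
  refine ⟨θ, ?_⟩
  have hle : P ≤ M.P0.map (MulAut.conj θ).toMonoidHom := by
    intro x hx
    rw [← repf_range f'] at hx
    obtain ⟨g, rfl⟩ := hx
    obtain ⟨g', hg', e⟩ := hM.stable τ (g := nat M g) (by rw [← nat_range]; exact ⟨g, rfl⟩)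
    refine ⟨g', hg', ?_⟩
    show θ * g' * θ⁻¹ = repf f' g
    rw [mul_inv_eq_iff_eq_mul]
    apply Units.ext
    rw [Units.val_mul, Units.val_mul, hθ, e]
    exact hX0g g
  refine Subgroup.eq_of_le_of_card_ge hle ?_
  have h1 : Nat.card (M.P0.map (MulAut.conj θ).toMonoidHom) = Nat.card M.P0 :=
    Nat.card_congr (M.P0.equivMapOfInjective _ (MulAut.conj θ).injective).toEquiv.symm
  rw [h1, ← nat_range M, Nat.card_congr f.toEquiv]
  exact Nat.card_le_card_of_surjective _ (nat M).rangeRestrict_surjective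

end Cfsg.Agent.H870.GE
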