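import Cfsg.Agent.H161.Oct

/-!
# `G₂(q)` in `Ω₇(q)` and `Sp₆(q)` by the spin module (helper870, for S3499)

`Sp y c` : `y (z w) = c(z) y(w)` for the octonions `z` of trace zero; `y` is in the spin group, `c` its image in the
orthogonal group of the octonions of trace zero.
-/

set_option autoImplicit false
set_option linter.unusedSimpArgs false

namespace Cfsg.Agent.H870.GE

open Cfsg.Lie Cfsg.Agent.H161.Oct

variable {F : Type*} [Field F]

/-- the spin relation -/
structure Sp (y c : V F ≃ₗ[F] V F) : Prop where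
  rel : ∀ z w : V F, tr z = 0 → y (zornMul z w) = zornMul (c z) (y w)
  tr0 : ∀ z : V F, tr (c z) = tr z
  oo : c o = o
  iso : ∀ w : V F, nm (y w) = nm w
  isoc : ∀ z : V F, nm (c z) = nm z

theorem Sp.mul {y c y' c' : V F ≃ₗ[F] V F} (h : Sp y c) (h' : Sp y' c') : Sp (y * y') (c * c') where
  rel z w hz := by
    rw [LinearEquiv.mul_apply, LinearEquiv.mul_apply, LinearEquiv.mul_apply, h'.rel z w hz, h.rel _ _ (by rw [h'.tr0, hz])]
  tr0 z := by rw [LinearEquiv.mul_apply, h.tr0, h'.tr0]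
  oo := by rw [LinearEquiv.mul_apply, h'.oo, h.oo]
  iso w := by rw [LinearEquiv.mul_apply, h.iso, h'.iso]
  isoc w := by rw [LinearEquiv.mul_apply, h.isoc, h'.isoc]

theorem sp_aut {g : V F ≃ₗ[F] V F} (hg : g ∈ AutO F) : Sp g g where
  rel z w _ := hg z w
  tr0 z := map_tr hg z
  oo := map_o hg
  iso w := map_nm hg w
  isoc w := map_nm hg w

/-- spin side -/
def YF (t : F) (w : V F) : V F := ![w 0 + t * w 3, w 1, w 2, w 3, w 4, w 5, w 6 + t * w 7, w 7]

theorem YF0 (t : F) (w : V F) : YF t w 0 = w 0 + t * w 3 := rfl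
theorem YF1 (t : F) (w : V F) : YF t w 1 = w 1 := rfl
theorem YF2 (t : F) (w : V F) : YF t w 2 = w 2 := rfl
theorem YF3 (t : F) (w : V F) : YF t w 3 = w 3 := rfl
theorem YF4 (t : F) (w : V F) : YF t w 4 = w 4 := rfl
theorem YF5 (t : F) (w : V F) : YF t w 5 = w 5 := rfl
theorem YF6 (t : F) (w : V F) : YF t w 6 = w 6 + t * w 7 := rfl
theorem YF7 (t : F) (w : V F) : YF t w 7 = w 7 := rfl

/-- spin side -/
def Y (t : F) : V F ≃ₗ[F] V F where
  toFun := YF t
  map_add' x y := by
    apply ext8 <;> simp only [YF0, YF1, YF2, YF3, YF4, YF5, YF6, YF7, Pi.add_apply] <;> ring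
  map_smul' c x := by
    apply ext8 <;> simp only [YF0, YF1, YF2, YF3, YF4, YF5, YF6, YF7, Pi.smul_apply, smul_eq_mul, RingHom.id_apply] <;>
      ring
  invFun := YF (-t)
  left_inv x := by
    apply ext8 <;> simp only [YF0, YF1, YF2, YF3, YF4, YF5, YF6, YF7] <;> ring
  right_inv x := by
    apply ext8 <;> simp only [YF0, YF1, YF2, YF3, YF4, YF5, YF6, YF7] <;> ring

theorem Y_apply (t : F) (w : V F) : Y t w = YF t w := rfl

/-- orthogonal side -/
def CF (t : F) (w : V F) : V F := ![w 0, w 1 + t * w 5, w 2 - t * w 4, w 3, w 4, w 5, w 6, w 7]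

theorem CF0 (t : F) (w : V F) : CF t w 0 = w 0 := rfl
theorem CF1 (t : F) (w : V F) : CF t w 1 = w 1 + t * w 5 := rfl
theorem CF2 (t : F) (w : V F) : CF t w 2 = w 2 - t * w 4 := rfl
theorem CF3 (t : F) (w : V F) : CF t w 3 = w 3 := rfl
theorem CF4 (t : F) (w : V F) : CF t w 4 = w 4 := rfl
theorem CF5 (t : F) (w : V F) : CF t w 5 = w 5 := rfl
theorem CF6 (t : F) (w : V F) : CF t w 6 = w 6 := rfl
theorem CF7 (t : F) (w : V F) : CF t w 7 = w 7 := rfl

/-- orthogonal side -/
def C (t : F) : V F ≃ₗ[F] V F where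
  toFun := CF t
  map_add' x y := by
    apply ext8 <;> simp only [CF0, CF1, CF2, CF3, CF4, CF5, CF6, CF7, Pi.add_apply] <;> ring
  map_smul' c x := by
    apply ext8 <;> simp only [CF0, CF1, CF2, CF3, CF4, CF5, CF6, CF7, Pi.smul_apply, smul_eq_mul, RingHom.id_apply] <;>
      ring
  invFun := CF (-t)
  left_inv x := by
    apply ext8 <;> simp only [CF0, CF1, CF2, CF3, CF4, CF5, CF6, CF7] <;> ring
  right_inv x := by
    apply ext8 <;> simp only [CF0, CF1, CF2, CF3, CF4, CF5, CF6, CF7] <;> ring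

theorem C_apply (t : F) (w : V F) : C t w = CF t w := rfl

theorem YC_rel (t : F) (z w : V F) (hz : tr z = 0) : YF t (zornMul z w) = zornMul (CF t z) (YF t w) := by
  have h7 : z 7 = - z 0 := by
    rw [tr] at hz
    exact eq_neg_of_add_eq_zero_right hz
  apply ext8
  · rw [YF0, mul0, mul3, mul0, YF0, YF4, YF5, YF6, CF0, CF1, CF2, CF3]; ring
  · rw [YF1, mul1, mul1, YF1, YF7, YF6, YF5, CF0, CF1, CF5, CF6]; ring
  · rw [YF2, mul2, mul2, YF2, YF7, YF4, YF6, CF0, CF2, CF6, CF4]; ring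
  · rw [YF3, mul3, mul3, YF3, YF7, YF4, YF5, CF0, CF3, CF4, CF5]
    try ring
  · rw [YF4, mul4, mul4, YF0, YF4, YF3, YF2, CF4, CF7, CF2, CF3, h7]; ring
  · rw [YF5, mul5, mul5, YF0, YF5, YF1, YF3, CF5, CF7, CF3, CF1, h7]; ring
  · rw [YF6, mul6, mul7, mul6, YF0, YF6, YF2, YF1, CF6, CF7, CF1, CF2, h7]; ring
  · rw [YF7, mul7, mul7, YF1, YF2, YF3, YF7, CF4, CF5, CF6, CF7]
    try ring

theorem CF_o (t : F) : CF t o = o := by
  apply ext8
  · rw [CF0]
  · rw [CF1, o1, o5]; ring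
  · rw [CF2, o2, o4]; ring
  · rw [CF3]
  · rw [CF4]
  · rw [CF5]
  · rw [CF6]
  · rw [CF7]

theorem nm_YF (t : F) (w : V F) : nm (YF t w) = nm w := by
  rw [nm, nm]
  simp only [YF0, YF1, YF2, YF3, YF4, YF5, YF6, YF7]
  ring

theorem nm_CF (t : F) (w : V F) : nm (CF t w) = nm w := by
  rw [nm, nm]
  simp only [CF0, CF1, CF2, CF3, CF4, CF5, CF6, CF7]
  ring

theorem tr_CF (t : F) (w : V F) : tr (CF t w) = tr w := by
  rw [tr, tr, CF0, CF7]

theorem sp_YC (t : F) : Sp (Y t) (C t) where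
  rel z w hz := YC_rel t z w hz
  tr0 z := tr_CF t z
  oo := CF_o t
  iso w := nm_YF t w
  isoc w := nm_CF t w

theorem Y_inv (t : F) : (Y t)⁻¹ = Y (-t) := by
  refine LinearEquiv.ext fun x => ?_
  rfl

theorem C_inv (t : F) : (C t)⁻¹ = C (-t) := by
  refine LinearEquiv.ext fun x => ?_
  rfl

/-! ### the kernel -/

/-- basis vectors -/
def E (i : Fin 8) : V F := Pi.single i 1

/-- a map commuting with the left multiplications -/
theorem comm_o {s : V F →ₗ[F] V F} (hs : ∀ z w : V F, tr z = 0 → s (zornMul z w) = zornMul z (s w)) :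
    s o = (s o 0) • o := by
  set v := s o with hv
  have key : ∀ a b : V F, tr a = 0 → tr b = 0 → tr (zornMul a b) = 0 →
      zornMul (zornMul a b) v = zornMul a (zornMul b v) := by
    intro a b ha hb hab
    have h1 := hs (zornMul a b) o hab
    rw [mul_o, hs a b ha] at h1
    have h2 := hs b o hb
    rw [mul_o] at h2
    rw [h2] at h1
    exact h1.symm
  have k12 := key ![0, 1, 0, 0, 0, 0, 0, 0] ![0, 0, 1, 0, 0, 0, 0, 0] (by simp [tr]) (by simp [tr])
    (by simp [tr, mul0, mul7])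
  have k23 := key ![0, 0, 1, 0, 0, 0, 0, 0] ![0, 0, 0, 1, 0, 0, 0, 0] (by simp [tr]) (by simp [tr])
    (by simp [tr, mul0, mul7])
  have k31 := key ![0, 0, 0, 1, 0, 0, 0, 0] ![0, 1, 0, 0, 0, 0, 0, 0] (by simp [tr]) (by simp [tr])
    (by simp [tr, mul0, mul7])
  have a0 := congrFun k12 0
  have a1 := congrFun k12 1
  have a2 := congrFun k12 2
  have a6 := congrFun k12 6
  have b0 := congrFun k23 0
  have b2 := congrFun k23 2
  have c0 := congrFun k31 0
  have c3 := congrFun k31 3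
  simp [mul0, mul1, mul2, mul3, mul4, mul5, mul6, mul7] at a0 a1 a2 a6 b0 b2 c0 c3
  apply ext8 <;> simp only [Pi.smul_apply, smul_eq_mul, o0, o1, o2, o3, o4, o5, o6, o7] <;>
    first | linear_combination a0 | linear_combination a1 | linear_combination a2 | linear_combination a6 | linear_combination b0 | linear_combination b2 | linear_combination c0 | linear_combination c3 | linear_combination -a0 | linear_combination -a1 | linear_combination -a2 | linear_combination -a6 | linear_combination -b0 | linear_combination -b2 | linear_combination -c0 | linear_combination -c3 | ring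

theorem eq_of_eqv {y c y' c' : V F ≃ₗ[F] V F} (h : Sp y c) (h' : Sp y' c')
    (he : ∀ z : V F, tr z = 0 → ∃ a : F, c z = c' z + a • o) (z : V F) (hz : tr z = 0) : c z = c' z := by
  obtain ⟨a, ha⟩ := he z hz
  have h1 := h.isoc z
  rw [ha, nm_add, bl_smul, bl_o, h'.tr0, hz, h'.isoc, nm_smul, nm_o] at h1
  have h2 : a ^ 2 = 0 := by linear_combination h1
  rw [ha, pow_eq_zero_iff (two_ne_zero) |>.1 h2, zero_smul, add_zero]

/-- the kernel of the spin group -/
theorem Sp.o_of_eq {y c g : V F ≃ₗ[F] V F} (h : Sp y c) (hg : g ∈ AutO F)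
    (he : ∀ z : V F, tr z = 0 → ∃ a : F, c z = g z + a • o) : ∃ a : F, y o = a • o := by
  have he' := eq_of_eqv h (sp_aut hg) he
  let s : V F →ₗ[F] V F := (g⁻¹ : V F ≃ₗ[F] V F).toLinearMap.comp y.toLinearMap
  have hs : ∀ z w : V F, tr z = 0 → s (zornMul z w) = zornMul z (s w) := by
    intro z w hz
    show g⁻¹ (y (zornMul z w)) = zornMul z (g⁻¹ (y w))
    rw [h.rel z w hz, he' z hz, (AutO F).inv_mem hg]
    congr 1
    exact g.symm_apply_apply z
  have h1 := comm_o hs
  refine ⟨s o 0, ?_⟩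
  have h2 : y o = g (s o) := (g.apply_symm_apply (y o)).symm
  rw [h2, h1, map_smul, map_o hg]
  simp [o0]

/-- conjugation -/
def cjg (x : V F) : V F := tr x • o - x

theorem cjg_mul (x y : V F) : cjg (zornMul x y) = zornMul (cjg y) (cjg x) := by
  unfold cjg
  apply ext8 <;> simp only [Pi.sub_apply, Pi.smul_apply, smul_eq_mul, o0, o1, o2, o3, o4, o5, o6, o7, mul0, mul1, mul2,
    mul3, mul4, mul5, mul6, mul7, tr] <;> ring

theorem cjg_cjg (x : V F) : cjg (cjg x) = x := by
  unfold cjg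
  apply ext8 <;> simp only [Pi.sub_apply, Pi.smul_apply, smul_eq_mul, o0, o1, o2, o3, o4, o5, o6, o7, tr] <;> ring

theorem cjg_tr0 {x : V F} (hx : tr x = 0) : cjg x = - x := by
  unfold cjg
  rw [hx, zero_smul, zero_sub]

/-- an element of the spin group fixing the identity is an automorphism -/
theorem Sp.mem_AutO {y c : V F ≃ₗ[F] V F} (h : Sp y c) (ho : y o = o) : y ∈ AutO F ∧ ∀ z, tr z = 0 → c z = y z := by
  have h1 : ∀ z, tr z = 0 → c z = y z := by
    intro z hz
    have h2 := h.rel z o hz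
    rw [mul_o, ho, mul_o] at h2
    exact h2.symm
  refine ⟨?_, h1⟩
  have h2 : ∀ z w, tr z = 0 → y (zornMul z w) = zornMul (y z) (y w) := by
    intro z w hz
    rw [h.rel z w hz, h1 z hz]
  have hbl : ∀ a b, bl (y a) (y b) = bl a b := by
    intro a b
    have h3 := h.iso (a + b)
    rw [map_add, nm_add, nm_add, h.iso, h.iso] at h3
    exact add_left_cancel h3
  have htr : ∀ a, tr (y a) = tr a := by
    intro a
    rw [← bl_o, ← bl_o, ← hbl a o, ho]
  have hcj : ∀ a, y (cjg a) = cjg (y a) := by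
    intro a
    unfold cjg
    rw [map_sub, map_smul, ho, htr]
  have h3 : ∀ z w, tr z = 0 → y (zornMul w z) = zornMul (y w) (y z) := by
    intro z w hz
    have e1 : zornMul w z = cjg (zornMul (-z) (cjg w)) := by
      rw [cjg_mul, cjg_cjg, ← cjg_tr0 hz, cjg_cjg]
    have hz' : tr (-z) = 0 := by
      rw [← neg_one_smul F z, tr_smul, hz, mul_zero]
    rw [e1, hcj, h2 _ _ hz', cjg_mul, hcj, cjg_cjg, map_neg, ← cjg_tr0 (x := y z) (by rw [htr, hz]), cjg_cjg]
  have h4 : ∀ x, y (zornMul x x) = zornMul (y x) (y x) := by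
    intro x
    rw [sq_eq, sq_eq, map_sub, map_smul, map_smul, ho, htr, h.iso]
  have te : tr (e1 : V F) = 1 := by
    simp only [tr, e1_0, e1_7]
    ring
  have hd : ∀ x : V F, ∃ z a, tr z = 0 ∧ x = z + a • e1 := fun x => ⟨x - tr x • e1, tr x, by
    rw [sub_eq_add_neg, ← neg_smul, tr_add, tr_smul, te]; ring, by abel⟩
  intro x w
  obtain ⟨z, a, hz, rfl⟩ := hd x
  obtain ⟨z', b, hz', rfl⟩ := hd w
  have e2 : y (zornMul (a • e1) (z' + b • e1)) = zornMul (y (a • e1)) (y (z' + b • e1)) := by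
    rw [zmul_add, map_add, h3 _ _ hz', zmul_smul, zsmul_mul, map_smul y b (a • zornMul e1 e1),
      map_smul y a (zornMul e1 e1), h4, map_add y z', zmul_add, map_smul y a e1, map_smul y b e1, zmul_smul, zsmul_mul,
      zsmul_mul]
  rw [zadd_mul, map_add, h2 _ _ hz, e2, map_add y z, zadd_mul]

end Cfsg.Agent.H870.GE
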