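import Cfsg.Agent.H927.G2Main
import Cfsg.Agent.ChevalleyStructure.GraphG2

/-!
# `G₂(K)`, characteristic three: twisting with the graph automorphism (helper870, for S3499)

* `exists_graph` : the graph automorphism on the root elements;
* `not_both` : a simple module and its twist are not both of the second type;
* `exists_x1` : after changing the isomorphism `P ≃* G₂(K)` the coefficient is of the first type.
-/

set_option autoImplicit false
set_option linter.unusedSectionVars false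
set_option linter.style.haveILetI false

namespace Cfsg.Agent.H870.GE

open Cfsg.Lie Matrix Cfsg.Agent.H638.G2Rep Cfsg.Agent.H638.G2Mem
open Cfsg.Agent.H638
open CoxeterSystem Cfsg.Agent.ChevalleyStructure.CoxeterGeom Cfsg.Agent.Tits.Roots Cfsg.Agent.Tits.Core
  Cfsg.Agent.Tits.Exchange Cfsg.Agent.Nodes.Reps Cfsg.Agent.Nodes.BNOf Cfsg.Agent.Nodes.StabComb
  Cfsg.Agent.Nodes.Bruhat Cfsg.Agent.Nodes.OppDec Cfsg.Agent.Nodes.LeviDec Cfsg.Agent.KFacts.RgdOpp
  Cfsg.Agent.Omega.CR Cfsg.Agent.Omega.FOne.Lift.Sd Cfsg.Agent.Nodes.RGDLib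
open Cfsg.Agent.H905.Md Cfsg.Agent.H64.CrossChev Cfsg.Agent.Nodes.RGDChev
open Module Cfsg.Agent.H927.LD Cfsg.Agent.H927.G2

variable {K : Type} [Field K]

/-- the graph automorphism on the root elements -/
theorem exists_graph [Finite K] [CharP K 3] : ∃ α : GK K ≃* GK K, ∀ (r : ℕ) (t : K), r < 12 →
    α (xg r t) = xg ([2, 3, 0, 1, 5, 4, 7, 6, 10, 11, 8, 9].getD r 0) (t ^ [1, 1, 3, 3, 3, 1, 1, 3, 3, 3, 1, 1].getD r 0) := by
  haveI : Fact (Nat.Prime 3) := ⟨Nat.prime_three⟩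
  haveI : PerfectRing K 3 := PerfectField.toPerfectRing 3
  obtain ⟨α, hα⟩ := Cfsg.Agent.ChevalleyStructure.GraphG2.exists_graph (K := K) (fun x => by
    obtain ⟨y, hy⟩ := surjective_frobenius K 3 x
    exact ⟨y, hy⟩)
  refine ⟨α, fun r t hr => ?_⟩
  apply Subtype.ext
  apply Units.ext
  exact hα (xg r t) r t hr rfl

theorem cube_surj [Finite K] [CharP K 3] (x : K) : ∃ y : K, y ^ 3 = x := by
  haveI : Fact (Nat.Prime 3) := ⟨Nat.prime_three⟩
  haveI : PerfectRing K 3 := PerfectField.toPerfectRing 3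
  obtain ⟨y, hy⟩ := surjective_frobenius K 3 x
  exact ⟨y, hy⟩

variable {k V : Type*} [Field k] [IsAlgClosed k] [AddCommGroup V] [Module k V] [FiniteDimensional k V] [Nontrivial V]

/-- **A simple module and its twist are not both of the second type.** -/
theorem not_both [Finite K] [CharP K 3] [CharP k 3] {ρ : GK K →* Module.End k V} (h3 : 3 ≤ Nat.card K)
    (hirr : ∀ L : Submodule k V, Ivt ρ (GG cs2 hc2 (T2 K) (X2 K)) L → L = ⊥ ∨ L = ⊤) {α : GK K ≃* GK K}
    (hα : ∀ (r : ℕ) (t : K), r < 12 →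
      α (xg r t) = xg ([2, 3, 0, 1, 5, 4, 7, 6, 10, 11, 8, 9].getD r 0) (t ^ [1, 1, 3, 3, 3, 1, 1, 3, 3, 3, 1, 1].getD r 0))
    {v : V} (hv : v ∈ D cs2 hc2 (X2 K) ρ) (hv0 : v ≠ 0) {φ : Module.Dual k V} (hT : ∀ t ∈ T2 K, ρ t v = φ (ρ t v) • v)
    {j : K →+* k} (hj : ∀ g, φ (ρ g v) = j (x2 g))
    {v' : V} (hv' : v' ∈ D cs2 hc2 (X2 K) (ρ.comp α.toMonoidHom)) (hv0' : v' ≠ 0) {φ' : Module.Dual k V}
    (hT' : ∀ t ∈ T2 K, (ρ.comp α.toMonoidHom) t v' = φ' ((ρ.comp α.toMonoidHom) t v') • v')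
    {j' : K →+* k} (hj' : ∀ g, φ' ((ρ.comp α.toMonoidHom) g v') = j' (x2 g)) : False := by
  haveI : Fact (Nat.Prime 3) := ⟨Nat.prime_three⟩
  obtain ⟨c, hc0, hc1⟩ := exists_two h3
  -- `v'` is fixed by the positive root groups
  have h1 : ∀ r t, 6 ≤ r → r < 12 → ρ (xg r t) v' = v' := by
    intro r t hr6 hr
    have key : ∀ (s : ℕ) (u : K), 6 ≤ s → s < 12 → ρ (α (xg s u)) v' = v' := by
      intro s u hs6 hs
      refine hv' (xg s u) ?_
      obtain ⟨-, -⟩ := (⟨hs6, hs⟩ : 6 ≤ s ∧ s < 12)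
      have h5 : RGD.Pos cs2 hc2 (vec chevG2 2 s) := by
        refine ⟨(isRoot_iff ht cs2 _).2 ⟨s, hs, rfl⟩, ?_⟩
        have htab : ∀ s : Fin 12, 6 ≤ s.val → ∀ i, 0 ≤ rt2 s i := by decide +kernel
        exact htab ⟨s, hs⟩ hs6
      exact (show X2 K (vec chevG2 2 s) ≤ RGD.Sup (X2 K) (RGD.Pos cs2 hc2) from RGD.le_Sup h5) ((mem_X2 hs).2 ⟨u, rfl⟩)
    obtain ⟨y, hy⟩ := cube_surj t
    interval_cases r
    · have := key 7 y (by norm_num) (by norm_num)
      rw [hα 7 y (by norm_num)] at this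
      rw [← hy]
      exact this
    · have := key 6 t (by norm_num) (by norm_num)
      rw [hα 6 t (by norm_num)] at this
      rw [← pow_one t]
      exact this
    · have := key 10 t (by norm_num) (by norm_num)
      rw [hα 10 t (by norm_num)] at this
      rw [← pow_one t]
      exact this
    · have := key 11 t (by norm_num) (by norm_num)
      rw [hα 11 t (by norm_num)] at this
      rw [← pow_one t]
      exact this
    · have := key 8 y (by norm_num) (by norm_num)
      rw [hα 8 y (by norm_num)] at this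
      rw [← hy]
      exact this
    · have := key 9 y (by norm_num) (by norm_num)
      rw [hα 9 y (by norm_num)] at this
      rw [← hy]
      exact this
  have h2 : v' ∈ D cs2 hc2 (X2 K) ρ := by
    let St : Subgroup (GK K) :=
      { carrier := {g | ρ g v' = v'}
        mul_mem' := fun {a b} ha hb => by
          change ρ (a * b) v' = v'
          rw [rho_mul, hb, ha]
        one_mem' := by change ρ 1 v' = v'; rw [map_one]; rfl
        inv_mem' := fun {a} ha => by
          change ρ a⁻¹ v' = v'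
          have ha' : ρ a v' = v' := ha
          conv_lhs => rw [← ha']
          rw [← rho_mul, inv_mul_cancel, map_one]; rfl }
    have h3 : RGD.Sup (X2 K) (RGD.Pos cs2 hc2) ≤ St := by
      refine RGD.Sup_le fun z hz => ?_
      obtain ⟨r, hr6, hr, e, -⟩ := exists_of_pos hz
      intro u hu
      rw [← e] at hu
      obtain ⟨t, rfl⟩ := (mem_X2 hr).1 hu
      exact h1 r t hr6 hr
    intro u hu
    exact h3 hu
  have h4 : D cs2 hc2 (X2 K) ρ = Submodule.span k {v} :=
    Cfsg.Agent.H911.fx_eq_span (rgd2 (K := K) 3) ρ hirr hv hv0 (χ := fun t => φ (ρ t v)) hT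
  rw [h4, Submodule.mem_span_singleton] at h2
  obtain ⟨a, ha⟩ := h2
  have h5 := hT' (hh K 0 c) (hh_mem 0 hc0)
  rw [hj', x2_hh 0 hc0, if_neg (by decide), map_one, one_smul] at h5
  have h6 : α (hh K 0 c) = hh K 1 (c ^ 3) := by
    rw [hh_0, hh_1]
    simp only [map_mul]
    rw [hα 7 c (by norm_num), hα 4 _ (by norm_num), hα 7 (-1) (by norm_num), hα 4 1 (by norm_num)]
    have e1 : (-c⁻¹) ^ 3 = -(c ^ 3)⁻¹ := by
      rw [← inv_pow]; ring
    have e2 : (-1 : K) ^ 3 = -1 := by ring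
    show xg 6 (c ^ 3) * (xg 5 ((-c⁻¹) ^ 3) * xg 6 (c ^ 3)) * (xg 6 ((-1) ^ 3) * (xg 5 (1 ^ 3) * xg 6 ((-1) ^ 3))) = _
    rw [e1, e2, one_pow]
  have h7 : ρ (hh K 1 (c ^ 3)) v' = v' := by
    rw [← h6]
    exact h5
  have hc3 : c ^ 3 ≠ 0 := pow_ne_zero 3 hc0
  have h8 := hT (hh K 1 (c ^ 3)) (hh_mem 1 hc3)
  rw [hj, x2_hh 1 hc3, if_pos rfl] at h8
  rw [← ha, map_smul, h8] at h7
  have ha0 : a ≠ 0 := by
    rintro rfl
    rw [zero_smul] at ha
    exact hv0' ha.symm
  have h9 : j (c ^ 3) • v = v := smul_right_injective V ha0 h7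
  have h10 : j (c ^ 3) = 1 := smul_left_injective k hv0 (by simpa using h9)
  have h11 : c ^ 3 = 1 := j.injective (by rw [h10, map_one])
  have h12 : (c - 1) ^ 3 = 0 := by
    have e3 : (3 : K) = 0 := by exact_mod_cast CharP.cast_eq_zero K 3
    linear_combination h11 - (c ^ 2 - c) * e3
  exact hc1 (sub_eq_zero.1 (pow_eq_zero_iff (by norm_num) |>.1 h12))

/-! ### the first type -/

section core

open Cfsg Cfsg.Geo Cfsg.Agent.H915.LD Cfsg.Agent.H151.Six Cfsg.Agent.H911

universe u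

variable {ι : Type} [Fintype ι] [DecidableEq ι] {F : Type u} [Field F] [Finite F] {P : Subgroup (GL ι F)}

/-- the representation belonging to an isomorphism -/
noncomputable def repf (f : P ≃* GK K) : GK K →* GL ι F := P.subtype.comp f.symm.toMonoidHom

theorem repf_range (f : P ≃* GK K) : (repf f).range = P := by
  unfold repf
  rw [MonoidHom.range_comp, MonoidHom.range_eq_top.2 f.symm.surjective, ← MonoidHom.range_eq_map,
    Subgroup.range_subtype]

/-- **After changing the isomorphism the coefficient is of the first type.** -/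
theorem exists_x1 [Finite K] (p : ℕ) [hp : Fact p.Prime] [CharP F p] [CharP K p] (hC : Core P) (h3 : 3 ≤ Nat.card K)
    (f : P ≃* GK K) (hn : Fintype.card ι ≤ 12) :
    ∃ f' : P ≃* GK K, ∃ v : ι → AlgebraicClosure F, v ≠ 0 ∧ ∃ φ : Module.Dual (AlgebraicClosure F) (ι → AlgebraicClosure F),
      φ ≠ 0 ∧ ∃ j : K →+* AlgebraicClosure F, ∀ g, φ (lin (acRep (repf f')) g v) = j (x1 g) := by
  haveI := hC.nonempty
  have hchar : CharP (AlgebraicClosure F) p := charP_of_injective_algebraMap (algebraMap F _).injective p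
  have hirr : ∀ f : P ≃* GK K, ∀ L : Submodule (AlgebraicClosure F) (ι → AlgebraicClosure F),
      Ivt (lin (acRep (repf f))) (GG cs2 hc2 (T2 K) (X2 K)) L → L = ⊥ ∨ L = ⊤ :=
    fun f L hL => acRep_irr (repf_range f) (H920.span_eq_top hC.absIrred) GG2 L hL
  have hfin : Module.finrank (AlgebraicClosure F) (ι → AlgebraicClosure F) = Fintype.card ι :=
    Module.finrank_fintype_fun_eq_card _
  have hne : ∀ {v : ι → AlgebraicClosure F} {φ : Module.Dual (AlgebraicClosure F) (ι → AlgebraicClosure F)},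
      φ v = 1 → v ≠ 0 ∧ φ ≠ 0 := by
    intro v φ h
    constructor
    · rintro rfl
      rw [map_zero] at h
      exact zero_ne_one h
    · rintro rfl
      exact zero_ne_one h
  obtain ⟨v, hv, φ, hφ, hφv, hT, j, hj⟩ := cases p h3 (hirr f) (by rw [hfin]; exact hC.two_le) (by rw [hfin]; exact hn)
  rcases hj with ⟨hj, -⟩ | ⟨hj, rfl, -⟩
  · exact ⟨f, v, (hne hφv).1, φ, (hne hφv).2, j, hj⟩
  · obtain ⟨α, hα⟩ := exists_graph (K := K)
    obtain ⟨v', hv', φ', hφ', hφv', hT', j', hj'⟩ := cases 3 h3 (hirr (f.trans α.symm)) (by rw [hfin]; exact hC.two_le)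
      (by rw [hfin]; exact hn)
    rcases hj' with ⟨hj', -⟩ | ⟨hj', -, -⟩
    · exact ⟨f.trans α.symm, v', (hne hφv').1, φ', (hne hφv').2, j', hj'⟩
    · exfalso
      exact not_both h3 (hirr f) hα hv (hne hφv).1 hT hj hv' (hne hφv').1 hT' hj'

end core

end Cfsg.Agent.H870.GE
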